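import Cfsg.Agent.Lib.Factorized.Basic

/-!
Sylow subgroups of a factorized finite group.
-/

set_option autoImplicit false

open Pointwise

namespace Cfsg.Agent.Lib.Factorized

variable {G : Type*} [Group G] [Finite G]

/-- If `G = HK`, some Sylow `p`-subgroup of `G` is the product of Sylow `p`-subgroups of `H` and
of `K`. -/
theorem IsFactorization.exists_sylow_eq_mul {H K : Subgroup G} (h : IsFactorization H K) (p : ℕ)
    [hp : Fact p.Prime] :
    ∃ (P : Sylow p H) (Q : Sylow p K) (R : Sylow p G), ((R : Subgroup G) : Set G) =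
      (((P : Subgroup H).map H.subtype : Subgroup G) : Set G) *
        (((Q : Subgroup K).map K.subtype : Subgroup G) : Set G) := by
  obtain ⟨P0⟩ := (inferInstance : Nonempty (Sylow p H))
  obtain ⟨Q0⟩ := (inferInstance : Nonempty (Sylow p K))
  obtain ⟨R1, hR1⟩ := (P0.2.map H.subtype).exists_le_sylow
  obtain ⟨R2, hR2⟩ := (Q0.2.map K.subtype).exists_le_sylow
  obtain ⟨w, hw⟩ := MulAction.exists_smul_eq G R1 R2
  -- choose `g ∈ H ∩ w⁻¹ K`
  obtain ⟨g, hgH, hgK⟩ := h.exists_common 1 w⁻¹
  rw [inv_one, one_mul] at hgH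
  rw [inv_inv] at hgK
  set k : K := ⟨w * g, hgK⟩
  set R : Sylow p G := g⁻¹ • R1
  set P : Sylow p H := (⟨g, hgH⟩ : H)⁻¹ • P0
  set Q : Sylow p K := k⁻¹ • Q0
  refine ⟨P, Q, R, ?_⟩
  set PG := (P : Subgroup H).map H.subtype with hPG
  set QG := (Q : Subgroup K).map K.subtype with hQG
  have hPR : PG ≤ (R : Subgroup G) := by
    rintro _ ⟨x, hx, rfl⟩
    have hx' : (⟨g, hgH⟩ : H) * x * (⟨g, hgH⟩ : H)⁻¹ ∈ (P0 : Subgroup H) := by
      have := hx
      simp only [P, Sylow.coe_subgroup_smul, SetLike.mem_coe] at this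
      rw [mem_conj_smul_iff, inv_inv] at this
      exact this
    have h1 := hR1 (Subgroup.mem_map_of_mem H.subtype hx')
    simp only [R, Sylow.coe_subgroup_smul]
    rw [mem_conj_smul_iff, inv_inv]
    simpa using h1
  have hQR : QG ≤ (R : Subgroup G) := by
    rintro _ ⟨x, hx, rfl⟩
    have hx' : k * x * k⁻¹ ∈ (Q0 : Subgroup K) := by
      have := hx
      simp only [Q, Sylow.coe_subgroup_smul, SetLike.mem_coe] at this
      rw [mem_conj_smul_iff, inv_inv] at this
      exact this
    have h2 := hR2 (Subgroup.mem_map_of_mem K.subtype hx')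
    rw [← hw, Sylow.coe_subgroup_smul, mem_conj_smul_iff] at h2
    simp only [R, Sylow.coe_subgroup_smul]
    rw [mem_conj_smul_iff, inv_inv]
    convert h2 using 1
    simp [k]
    group
  -- counting
  have hsub : (PG : Set G) * (QG : Set G) ⊆ ((R : Subgroup G) : Set G) := by
    rintro _ ⟨a, ha, b, hb, rfl⟩
    exact mul_mem (hPR ha) (hQR hb)
  refine (Set.eq_of_subset_of_ncard_le hsub ?_ (Set.toFinite _)).symm
  rw [← Nat.card_coe_set_eq, ← Nat.card_coe_set_eq]
  have hP : Nat.card PG = p ^ (Nat.card H).factorization p := by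
    rw [hPG, Subgroup.card_map_of_injective H.subtype_injective, P.card_eq_multiplicity]
  have hQ : Nat.card QG = p ^ (Nat.card K).factorization p := by
    rw [hQG, Subgroup.card_map_of_injective K.subtype_injective, Q.card_eq_multiplicity]
  have hle : Nat.card ↥(PG ⊓ QG) ≤ p ^ (Nat.card ↥(H ⊓ K)).factorization p := by
    obtain ⟨n, hn⟩ := IsPGroup.iff_card.1 ((P.2.map H.subtype).to_le (inf_le_left : PG ⊓ QG ≤ PG))
    have hdvd : Nat.card ↥(PG ⊓ QG) ∣ Nat.card ↥(H ⊓ K) :=
      Subgroup.card_dvd_of_le (inf_le_inf (Subgroup.map_subtype_le _) (Subgroup.map_subtype_le _))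
    rw [hn] at hdvd ⊢
    exact Nat.pow_le_pow_right hp.out.pos
      ((hp.out.pow_dvd_iff_le_factorization Nat.card_pos.ne').1 hdvd)
  have hfac : (Nat.card G).factorization p + (Nat.card ↥(H ⊓ K)).factorization p =
      (Nat.card H).factorization p + (Nat.card K).factorization p := by
    have := congrArg (fun m => m.factorization p) h.card_mul_card
    simp only [Nat.factorization_mul Nat.card_pos.ne' Nat.card_pos.ne', Finsupp.add_apply] at this
    omega
  have hcard := card_set_mul_mul_card_inf PG QG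
  rw [hP, hQ, ← pow_add, ← hfac, pow_add, ← R.card_eq_multiplicity] at hcard
  exact Nat.le_of_mul_le_mul_right (hcard ▸ Nat.mul_le_mul_left _ hle) (pow_pos hp.out.pos _)

end Cfsg.Agent.Lib.Factorized
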