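import Cfsg.Agent.Lib.Factorized.CoprimeCount
import Cfsg.Agent.Lib.Factorized.Sylow

/-!
The theorem of Kegel and Wielandt: a finite product of two nilpotent subgroups is solvable.
-/

set_option autoImplicit false

open Pointwise

namespace Cfsg.Agent.Lib.Factorized

universe u

theorem kegel_wielandt_aux (n : ℕ) :
    ∀ (G : Type u) [Group G] [Finite G] (A B : Subgroup G), Nat.card G = n →
      Group.IsNilpotent A → Group.IsNilpotent B → IsFactorization A B → Group.IsSolvable G := by
  induction n using Nat.strong_induction_on with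
  | _ n ih =>
  intro G _ _ A B hn hA hB hfac
  classical
  by_contra hns
  haveI : Nontrivial G := by
    by_contra h
    rw [not_nontrivial_iff_subsingleton] at h
    exact hns inferInstance
  have hnil_inf : ∀ (X L : Subgroup G), Group.IsNilpotent X → Group.IsNilpotent ↥(X.subgroupOf L) := by
    intro X L hX
    haveI := hX
    exact Group.nilpotent_of_mulEquiv
      ((MulEquiv.subgroupCongr (Subgroup.inf_subgroupOf_right X L)).symm.trans
        ((Subgroup.subgroupOfEquivOfLe inf_le_right).trans
          (Subgroup.subgroupOfEquivOfLe (inf_le_left : X ⊓ L ≤ X)).symm)).symm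
  -- proper factorized subgroups are solvable
  have hsub : ∀ L : Subgroup G, L ≠ ⊤ → (∀ g ∈ L, ∃ a ∈ A ⊓ L, ∃ b ∈ B ⊓ L, g = a * b) →
      Group.IsSolvable L := by
    intro L hL hf
    refine ih (Nat.card L) (hn ▸ ?_) L (A.subgroupOf L) (B.subgroupOf L) rfl (hnil_inf A L hA)
      (hnil_inf B L hB) ?_
    · exact lt_of_le_of_ne (Subgroup.card_le_card_group L)
        fun he => hL (Subgroup.eq_top_of_card_eq L he)
    · intro g
      obtain ⟨a, ha, b, hb, hab⟩ := hf g g.2
      exact ⟨⟨a, ha.2⟩, ha.1, ⟨b, hb.2⟩, hb.1, Subtype.ext hab⟩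
  -- proper quotients are solvable
  have hquot : ∀ N : Subgroup G, ∀ _hN : N.Normal, N ≠ ⊥ → Group.IsSolvable (G ⧸ N) := by
    intro N _ hNb
    set π := QuotientGroup.mk' N
    haveI := hA
    haveI := hB
    refine ih (Nat.card (G ⧸ N)) (hn ▸ ?_) (G ⧸ N) (A.map π) (B.map π) rfl
      (Group.nilpotent_of_surjective (π.subgroupMap A) (π.subgroupMap_surjective A))
      (Group.nilpotent_of_surjective (π.subgroupMap B) (π.subgroupMap_surjective B))
      (hfac.map (QuotientGroup.mk'_surjective N))
    rw [← N.index_eq_card, ← N.card_mul_index]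
    exact lt_mul_left (Nat.pos_of_ne_zero Subgroup.index_ne_zero_of_finite)
      ((Subgroup.one_lt_card_iff_ne_bot N).2 hNb)
  -- no nontrivial solvable normal subgroup
  have hnosolv : ∀ N : Subgroup G, N.Normal → Group.IsSolvable N → N = ⊥ := by
    intro N hN hs
    by_contra hNb
    haveI := hquot N hN hNb
    haveI := hN
    exact hns ((Group.isSolvable_iff_subgroup_quotient N).2 ⟨hs, inferInstance⟩)
  -- both factors supplement each nontrivial normal subgroup
  have hsupp : ∀ (X Y : Subgroup G), IsFactorization X Y →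
      (∀ L : Subgroup G, L ≠ ⊤ → (∀ g ∈ L, ∃ a ∈ X ⊓ L, ∃ b ∈ Y ⊓ L, g = a * b) → Group.IsSolvable L) →
      ∀ N : Subgroup G, N.Normal → N ≠ ⊥ → X ⊔ N = ⊤ := by
    intro X Y hXY hXs N hN hNb
    by_contra htop
    haveI := hXs (X ⊔ N) htop fun g hg => by
      obtain ⟨a, ha, b, hb, hab⟩ := hXY.of_le_left le_sup_left g hg
      exact ⟨a, ⟨ha, Subgroup.mem_sup_left ha⟩, b, hb, hab⟩
    exact hNb (hnosolv N hN (Group.isSolvable_of_isSolvable_injective
      (Subgroup.inclusion_injective (le_sup_right : N ≤ X ⊔ N))))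
  have hsuppA := hsupp A B hfac hsub
  have hsuppB := hsupp B A hfac.symm fun L hL hf => hsub L hL fun g hg => by
    obtain ⟨b, hb, a, ha, hab⟩ := hf g⁻¹ (L.inv_mem hg)
    exact ⟨a⁻¹, inv_mem ha, b⁻¹, inv_mem hb, by rw [← mul_inv_rev, ← hab, inv_inv]⟩
  -- a minimal normal subgroup
  obtain ⟨N, hN⟩ := (Set.toFinite {N : Subgroup G | N.Normal ∧ N ≠ ⊥}).exists_minimal
    ⟨⊤, inferInstance, (top_ne_bot : (⊤ : Subgroup G) ≠ ⊥)⟩
  obtain ⟨hNn, hNb⟩ := hN.1
  haveI := hNn
  -- the orders of the factors are coprime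
  have hcop : (Nat.card A).Coprime (Nat.card B) := by
    refine Nat.coprime_of_dvd fun p hp hpA hpB => ?_
    haveI := Fact.mk hp
    set Ap := ppart A p
    set Bp := ppart B p
    set M := Ap ⊔ N with hMdef
    haveI hMn : M.Normal := by
      rw [← Subgroup.normalizer_eq_top_iff, eq_top_iff, ← hsuppA N hNn hNb]
      refine sup_le ?_ (le_sup_right.trans Subgroup.le_normalizer)
      refine le_trans (le_inf le_normalizer_ppart ?_)
        (Subgroup.normalizer_inf_normalizer_le_normalizer_sup Ap N)
      exact le_top.trans (Subgroup.normalizer_eq_top (H := N)).ge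
    have hMb : M ≠ ⊥ := fun he => hNb (le_bot_iff.1 (he ▸ le_sup_right))
    -- the index of `M` is prime to `p`
    have hMi : ¬ p ∣ M.index := by
      intro hd
      have hApA : Ap.relIndex A = Nat.card A / p ^ (Nat.card A).factorization p := by
        have h1 := Subgroup.relIndex_mul_index (ppart_le (A := A) (p := p))
        have h2 := Ap.card_mul_index
        rw [← h1, card_ppart hA, ← A.card_mul_index] at h2
        have h3 : p ^ (Nat.card A).factorization p * Ap.relIndex A = Nat.card A :=
          Nat.eq_of_mul_eq_mul_right (Nat.pos_of_ne_zero Subgroup.index_ne_zero_of_finite)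
            (by rw [mul_assoc]; exact h2)
        conv_rhs => arg 1; rw [← h3]
        rw [Nat.mul_div_cancel_left _ (pow_pos hp.pos _)]
      have hdvd : M.index ∣ Ap.relIndex A := by
        have htop : A ⊔ M = ⊤ := hsuppA M hMn hMb
        have h1 : M.index = M.relIndex A := by
          rw [← Subgroup.relIndex_top_right, ← htop, Subgroup.relIndex_sup_right]
        rw [h1]
        exact Subgroup.relIndex_dvd_of_le_left _ le_sup_left
      rw [hApA] at hdvd
      exact Nat.not_dvd_ordCompl hp Nat.card_pos.ne' (hd.trans hdvd)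
    have hBpM : Bp ≤ M := by
      intro x hx
      rw [← QuotientGroup.eq_one_iff, ← orderOf_eq_one_iff]
      obtain ⟨i, hi⟩ := IsPGroup.iff_orderOf.1 (isPGroup_ppart (A := B) (p := p)) ⟨x, hx⟩
      rw [← Subgroup.orderOf_coe] at hi
      refine Nat.eq_one_of_dvd_coprimes (Nat.Coprime.pow_left i (hp.coprime_iff_not_dvd.2 hMi))
        (hi ▸ orderOf_map_dvd (QuotientGroup.mk' M) x) ?_
      rw [M.index_eq_card]
      exact orderOf_dvd_natCard _
    have hApM : Ap ≤ M := le_sup_left
    have hkey : ∀ x : ↥M, ∃ S : Subgroup ↥M, S ≠ ⊤ ∧ (S : Set ↥M) =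
        ((Ap.subgroupOf M : Subgroup ↥M) : Set ↥M) *
          ((MulAut.conj x • Bp.subgroupOf M : Subgroup ↥M) : Set ↥M) := by
      intro x
      obtain ⟨P, Q, R, hR⟩ := hfac.exists_sylow_eq_mul p
      have hP : (P : Subgroup A).map A.subtype = Ap := by
        rw [sylow_eq_pCore hA P]; rfl
      have hQ : (Q : Subgroup B).map B.subtype = Bp := by
        rw [sylow_eq_pCore hB Q]; rfl
      rw [hP, hQ] at hR
      obtain ⟨g, hg1, hg2⟩ := hfac.exists_conj_pair (le_normalizer_ppart (p := p))
        (le_normalizer_ppart (p := p)) 1 (x : G)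
      rw [map_one, one_smul] at hg1
      set S0 := MulAut.conj g • (R : Subgroup G) with hS0
      have hS0p : IsPGroup p S0 := R.2.map _
      have hset : (S0 : Set G) = (Ap : Set G) * ((MulAut.conj (x : G) • Bp : Subgroup G) : Set G) := by
        rw [hS0, Subgroup.coe_pointwise_smul, hR, ← conj_set_mul, ← hg1, ← hg2]
      have hconjM : MulAut.conj (x : G) • Bp ≤ M := by
        intro y hy
        have h1 := hBpM (mem_conj_smul_iff.1 hy)
        have h2 := M.mul_mem (M.mul_mem x.2 h1) (M.inv_mem x.2)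
        convert h2 using 1
        group
      have hS0M : S0 ≤ M := fun y hy => by
        obtain ⟨a, ha, b, hb, rfl⟩ : y ∈ (Ap : Set G) * ((MulAut.conj (x : G) • Bp : Subgroup G) : Set G) :=
          hset ▸ hy
        exact M.mul_mem (hApM ha) (hconjM hb)
      refine ⟨S0.subgroupOf M, fun he => ?_, ?_⟩
      · rw [Subgroup.subgroupOf_eq_top] at he
        haveI := (hS0p.to_le he).isNilpotent
        exact hNb (hnosolv N hNn (Group.isSolvable_of_isSolvable_injective
          (Subgroup.inclusion_injective (le_sup_right : N ≤ M))))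
      · ext ⟨y, hy⟩
        rw [Subgroup.coe_subgroupOf, Set.mem_preimage, Subgroup.coe_subtype, hset]
        constructor
        · rintro ⟨a, ha, b, hb, hab⟩
          have hb' : (x : G)⁻¹ * b * (x : G) ∈ Bp := mem_conj_smul_iff.1 hb
          exact ⟨⟨a, hApM ha⟩, ha, ⟨b, hconjM hb⟩, mem_conj_smul_iff.2 hb', Subtype.ext hab⟩
        · rintro ⟨a, ha, b, hb, hab⟩
          have hb2 : x⁻¹ * b * x ∈ Bp.subgroupOf M := mem_conj_smul_iff.1 hb
          have hb' : (x : G)⁻¹ * (b : G) * (x : G) ∈ Bp := hb2
          exact ⟨a, ha, b, mem_conj_smul_iff.2 hb', congrArg Subtype.val hab⟩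
    obtain ⟨S, hSn, hStop, hS⟩ := kegel_lemma _ _ hkey
    -- a normal subgroup of `G` between
    set S' := S.map M.subtype with hS'
    have hcore : ∀ (X : Subgroup G) (hXM : X ≤ M) (U : Subgroup G),
        U ≤ Subgroup.normalizer (X : Set G) → U ⊔ M = ⊤ → X.subgroupOf M ≤ S → X ≤ S'.normalCore := by
      intro X hXM U hUX hUM hXS y hy g
      obtain ⟨m, hm, a, ha, rfl⟩ := Subgroup.mem_sup_of_normal_left.1
        (show g ∈ M ⊔ U by rw [sup_comm, hUM]; trivial)
      have h1 : a * y * a⁻¹ ∈ X := (Subgroup.mem_normalizer_iff.1 (hUX ha) y).1 hy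
      refine ⟨⟨m, hm⟩ * ⟨a * y * a⁻¹, hXM h1⟩ * ⟨m, hm⟩⁻¹, hSn.conj_mem _ (hXS h1) _, ?_⟩
      show m * (a * y * a⁻¹) * m⁻¹ = m * a * y * (m * a)⁻¹
      group
    have hmain : ∀ X : Subgroup G, X ≠ ⊥ → X ≤ S'.normalCore → M ≤ X ⊔ N → False := by
      intro X hXb hX hMX
      haveI : S'.normalCore.Normal := Subgroup.normalCore_normal _
      by_cases hinf : S'.normalCore ⊓ N = ⊥
      · -- then the core is a `p`-group
        have hle : S'.normalCore ≤ M := (Subgroup.normalCore_le _).trans (Subgroup.map_subtype_le _)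
        have hp' : IsPGroup p ↥S'.normalCore := by
          intro ⟨y, hy⟩
          obtain ⟨a, ha, v, hv, rfl⟩ := Subgroup.mem_sup_of_normal_right.1 (hle hy)
          obtain ⟨i, hi⟩ := isPGroup_ppart (A := A) (p := p) ⟨a, ha⟩
          refine ⟨i, Subtype.ext ?_⟩
          have ha1 : a ^ p ^ i = 1 := congrArg Subtype.val hi
          have h3 : (a * v) ^ p ^ i ∈ S'.normalCore ⊓ N := by
            refine ⟨Subgroup.pow_mem _ hy _, show (a * v) ^ p ^ i ∈ N from ?_⟩
            rw [← QuotientGroup.eq_one_iff, QuotientGroup.mk_pow, QuotientGroup.mk_mul,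
              (QuotientGroup.eq_one_iff v).2 hv, mul_one, ← QuotientGroup.mk_pow, ha1, QuotientGroup.mk_one]
          rw [hinf, Subgroup.mem_bot] at h3
          exact h3
        haveI := hp'.isNilpotent
        exact hXb (le_bot_iff.1 (hnosolv S'.normalCore inferInstance inferInstance ▸ hX))
      · have hNS : N ≤ S'.normalCore :=
          (hN.2 ⟨inferInstance, hinf⟩ inf_le_right).trans inf_le_left
        apply hStop
        rw [eq_top_iff]
        intro m _
        obtain ⟨s, hs, hsm⟩ := Subgroup.normalCore_le _ (sup_le hX hNS (hMX m.2))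
        rwa [Subtype.ext hsm] at hs
    rcases hS with hS | hS
    · exact hmain Ap (ppart_ne_bot hA hpA)
        (hcore Ap hApM A le_normalizer_ppart (hsuppA M hMn hMb) hS) le_rfl
    · refine hmain Bp (ppart_ne_bot hB hpB)
        (hcore Bp hBpM B le_normalizer_ppart (hsuppB M hMn hMb) hS) ?_
      -- `M = Bp ⊔ N`
      have hle : Bp ⊔ N ≤ M := sup_le hBpM le_sup_right
      haveI hn' : (Bp ⊔ N).Normal := by
        rw [← Subgroup.normalizer_eq_top_iff, eq_top_iff, ← hsuppB N hNn hNb]
        refine sup_le ?_ (le_sup_right.trans Subgroup.le_normalizer)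
        refine le_trans (le_inf le_normalizer_ppart ?_)
          (Subgroup.normalizer_inf_normalizer_le_normalizer_sup Bp N)
        exact le_top.trans (Subgroup.normalizer_eq_top (H := N)).ge
      have hi : ¬ p ∣ (Bp ⊔ N).index := by
        intro hd
        have h1 : (Bp ⊔ N).index = (Bp ⊔ N).relIndex B := by
          rw [← Subgroup.relIndex_top_right,
            ← hsuppB (Bp ⊔ N) hn' (fun he => hNb (le_bot_iff.1 (he ▸ le_sup_right))),
            Subgroup.relIndex_sup_right]
        have h2 : p ∣ Bp.relIndex B := (h1 ▸ hd).trans (Subgroup.relIndex_dvd_of_le_left _ le_sup_left)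
        have h3 := Subgroup.relIndex_mul_index (ppart_le (A := B) (p := p))
        have h4 := Bp.card_mul_index
        rw [← h3, card_ppart hB, ← B.card_mul_index, ← mul_assoc] at h4
        have h5 := Nat.eq_of_mul_eq_mul_right (Nat.pos_of_ne_zero Subgroup.index_ne_zero_of_finite) h4
        have h6 : p ^ ((Nat.card B).factorization p + 1) ∣ Nat.card B := by
          rw [pow_succ]; exact (mul_dvd_mul_left _ h2).trans (dvd_of_eq h5)
        have := (hp.pow_dvd_iff_le_factorization Nat.card_pos.ne').1 h6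
        omega
      refine sup_le (fun x hx => ?_) le_sup_right
      rw [← QuotientGroup.eq_one_iff, ← orderOf_eq_one_iff]
      obtain ⟨i, hi'⟩ := IsPGroup.iff_orderOf.1 (isPGroup_ppart (A := A) (p := p)) ⟨x, hx⟩
      rw [← Subgroup.orderOf_coe] at hi'
      refine Nat.eq_one_of_dvd_coprimes (Nat.Coprime.pow_left i (hp.coprime_iff_not_dvd.2 hi))
        (hi' ▸ orderOf_map_dvd (QuotientGroup.mk' (Bp ⊔ N)) x) ?_
      rw [(Bp ⊔ N).index_eq_card]
      exact orderOf_dvd_natCard _
  -- hence `G` is simple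
  have hsimple : IsSimpleGroup G := by
    refine ⟨fun K hK => ?_⟩
    by_contra hne
    push Not at hne
    refine hne.2 (Subgroup.index_eq_one.1 ?_)
    have hd : ∀ X : Subgroup G, X ⊔ K = ⊤ → K.index ∣ Nat.card X := by
      intro X hX
      rw [← Subgroup.relIndex_top_right, ← hX, Subgroup.relIndex_sup_right]
      exact Subgroup.relIndex_dvd_card K X
    exact Nat.eq_one_of_dvd_coprimes hcop (hd A (hsuppA K hK hne.1)) (hd B (hsuppB K hK hne.1))
  exact CoprimeCtx.false_of_ctx
    { finite := inferInstance, simple := hsimple, nonsolv := hns, nilA := hA, nilB := hB,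
      cop := hcop, fac := hfac, ih := hsub }

/-- The theorem of Kegel and Wielandt. -/
theorem kegel_wielandt {G : Type u} [Group G] [Finite G] {A B : Subgroup G}
    (hA : Group.IsNilpotent A) (hB : Group.IsNilpotent B) (h : IsFactorization A B) :
    Group.IsSolvable G :=
  kegel_wielandt_aux (Nat.card G) G A B rfl hA hB h

end Cfsg.Agent.Lib.Factorized
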