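import Cfsg.Agent.Lib.Factorized.Basic
import Cfsg.Agent.S0572

/-!
A nontrivial finite product of two abelian subgroups has a nontrivial normal subgroup inside one
of the factors.
-/

set_option autoImplicit false

open Pointwise

namespace Cfsg.Agent.Lib.Factorized

variable {G : Type*} [Group G] [Finite G]

/-- Crossed homomorphisms from an abelian group to an abelian group without nontrivial fixed
points are principal. -/
theorem crossed_hom_principal (A K : Subgroup G) [IsMulCommutative A] [IsMulCommutative K]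
    (hfix : ∀ k ∈ K, (∀ a ∈ A, a * k * a⁻¹ = k) → k = 1) (n : ℕ) :
    ∀ U : Subgroup G, Nat.card U = n → U ≤ K → (∀ a ∈ A, ∀ u ∈ U, a * u * a⁻¹ ∈ U) →
      ∀ f : G → G, (∀ a ∈ A, f a ∈ U) →
      (∀ a ∈ A, ∀ b ∈ A, f (a * b) = f a * (a * f b * a⁻¹)) →
      ∃ k ∈ U, ∀ a ∈ A, f a = k * (a * k⁻¹ * a⁻¹) := by
  classical
  induction n using Nat.strong_induction_on with
  | _ n ih =>
  intro U hn hUK hinv f hfU hf
  have hcK : ∀ x ∈ U, ∀ y ∈ U, x * y = y * x := fun x hx y hy =>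
    setLike_mul_comm (hUK hx) (hUK hy)
  have hAA : ∀ a ∈ A, ∀ b ∈ A, a * b = b * a := fun a ha b hb => setLike_mul_comm ha hb
  by_cases hU : U = ⊥
  · refine ⟨1, U.one_mem, fun a ha => ?_⟩
    have h1 := hfU a ha
    rw [hU, Subgroup.mem_bot] at h1
    simp [h1]
  -- some `c ∈ A` acts nontrivially on `U`
  obtain ⟨c, hc, u0, hu0, hne⟩ : ∃ c ∈ A, ∃ u ∈ U, c * u * c⁻¹ ≠ u := by
    by_contra hall
    push Not at hall
    exact hU ((Subgroup.eq_bot_iff_forall U).2
      fun u hu => hfix u (hUK hu) fun a ha => hall a ha u hu)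
  -- the endomorphism `u ↦ u (c u⁻¹ c⁻¹)` of `U`
  let d : U →* U :=
    { toFun := fun u => ⟨(u : G) * (c * (u : G)⁻¹ * c⁻¹), U.mul_mem u.2 (hinv c hc _ (U.inv_mem u.2))⟩
      map_one' := Subtype.ext (by simp)
      map_mul' := fun x y => Subtype.ext (by
        have h1 := hcK (y : G) y.2 _ (U.mul_mem (hinv c hc _ (U.inv_mem x.2)) (hinv c hc _ (U.inv_mem y.2)))
        have h2 := hcK (c * (y : G)⁻¹ * c⁻¹) (hinv c hc _ (U.inv_mem y.2))
          (c * (x : G)⁻¹ * c⁻¹) (hinv c hc _ (U.inv_mem x.2))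
        simp only [Subgroup.coe_mul]
        calc (x : G) * y * (c * ((x : G) * y)⁻¹ * c⁻¹)
            = (x : G) * y * ((c * (y : G)⁻¹ * c⁻¹) * (c * (x : G)⁻¹ * c⁻¹)) := by group
          _ = (x : G) * y * ((c * (x : G)⁻¹ * c⁻¹) * (c * (y : G)⁻¹ * c⁻¹)) := by rw [h2]
          _ = (x : G) * ((y : G) * (c * (x : G)⁻¹ * c⁻¹)) * (c * (y : G)⁻¹ * c⁻¹) := by group
          _ = (x : G) * ((c * (x : G)⁻¹ * c⁻¹) * (y : G)) * (c * (y : G)⁻¹ * c⁻¹) := by
            rw [hcK _ y.2 _ (hinv c hc _ (U.inv_mem x.2))]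
          _ = (x : G) * (c * (x : G)⁻¹ * c⁻¹) * ((y : G) * (c * (y : G)⁻¹ * c⁻¹)) := by group) }
  have hd : ∀ u : U, ((d u : U) : G) = (u : G) * (c * (u : G)⁻¹ * c⁻¹) := fun u => rfl
  have hcomm : ∀ a ∈ A, ∀ u : G, a * (c * u * c⁻¹) * a⁻¹ = c * (a * u * a⁻¹) * c⁻¹ := by
    intro a ha u
    calc a * (c * u * c⁻¹) * a⁻¹ = (a * c) * u * (a * c)⁻¹ := by group
      _ = c * (a * u * a⁻¹) * c⁻¹ := by rw [hAA a ha c hc]; group
  set I : Subgroup G := d.range.map U.subtype with hI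
  set W : Subgroup G := d.ker.map U.subtype with hW
  have hIle : I ≤ U := Subgroup.map_subtype_le _
  have hWle : W ≤ U := Subgroup.map_subtype_le _
  have hIinv : ∀ a ∈ A, ∀ u ∈ I, a * u * a⁻¹ ∈ I := by
    rintro a ha _ ⟨_, ⟨u, rfl⟩, rfl⟩
    refine ⟨d ⟨a * (u : G) * a⁻¹, hinv a ha _ u.2⟩, ⟨_, rfl⟩, ?_⟩
    simp only [Subgroup.coe_subtype, hd]
    calc a * (u : G) * a⁻¹ * (c * (a * (u : G) * a⁻¹)⁻¹ * c⁻¹)
        = a * (u : G) * a⁻¹ * (c * (a * (u : G)⁻¹ * a⁻¹) * c⁻¹) := by group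
      _ = a * (u : G) * a⁻¹ * (a * (c * (u : G)⁻¹ * c⁻¹) * a⁻¹) := by rw [hcomm a ha]
      _ = a * ((u : G) * (c * (u : G)⁻¹ * c⁻¹)) * a⁻¹ := by group
  have hWmem : ∀ u, u ∈ W ↔ u ∈ U ∧ c * u * c⁻¹ = u := by
    intro u
    constructor
    · rintro ⟨w, hw, rfl⟩
      refine ⟨w.2, ?_⟩
      have h1 : (w : G) * (c * (w : G)⁻¹ * c⁻¹) = 1 := congrArg Subtype.val hw
      simp only [Subgroup.coe_subtype]
      calc c * (w : G) * c⁻¹ = (w : G) * (c * (w : G)⁻¹ * c⁻¹) * (c * (w : G) * c⁻¹) := by rw [h1, one_mul]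
        _ = w := by group
    · rintro ⟨hu, hcu⟩
      refine ⟨⟨u, hu⟩, Subtype.ext ?_, rfl⟩
      show u * (c * u⁻¹ * c⁻¹) = 1
      rw [show c * u⁻¹ * c⁻¹ = (c * u * c⁻¹)⁻¹ by group, hcu, mul_inv_cancel]
  have hWinv : ∀ a ∈ A, ∀ u ∈ W, a * u * a⁻¹ ∈ W := by
    intro a ha u hu
    rw [hWmem] at hu ⊢
    exact ⟨hinv a ha u hu.1, by rw [← hcomm a ha, hu.2]⟩
  have hWlt : Nat.card W < n := by
    rw [← hn]
    refine lt_of_le_of_ne (Nat.le_of_dvd Nat.card_pos (Subgroup.card_dvd_of_le hWle)) fun he => ?_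
    have h1 : W = U := Subgroup.eq_of_le_of_card_ge hWle he.ge
    exact hne ((hWmem u0).1 (h1.symm ▸ hu0)).2
  have hIlt : Nat.card I < n ∨ d.ker = ⊥ := by
    by_cases hk : d.ker = ⊥
    · exact Or.inr hk
    · left
      rw [← hn, hI, Subgroup.card_map_of_injective U.subtype_injective, ← Subgroup.index_ker]
      have h1 := d.ker.card_mul_index
      have h2 : 1 < Nat.card d.ker := (Subgroup.one_lt_card_iff_ne_bot _).2 hk
      have h3 : 0 < d.ker.index := Nat.pos_of_ne_zero Subgroup.index_ne_zero_of_finite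
      rw [← h1]
      exact lt_mul_left h3 h2
  -- `f c` lies in the image of `d`
  have hfc : f c ∈ I := by
    rcases hIlt with hIlt | hker
    · obtain ⟨k, hk, hk'⟩ := ih _ hIlt I rfl (hIle.trans hUK) hIinv
        (fun a => f c * (a * (f c)⁻¹ * a⁻¹)) (fun a ha => by
          refine ⟨d ⟨f a, hfU a ha⟩, ⟨_, rfl⟩, ?_⟩
          simp only [Subgroup.coe_subtype, hd]
          have e1 := hf a ha c hc
          have e2 := hf c hc a ha
          rw [hAA a ha c hc] at e1
          rw [e1] at e2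
          have h3 : c * f a * c⁻¹ = (f c)⁻¹ * (f a * (a * f c * a⁻¹)) := by
            rw [e2, inv_mul_cancel_left]
          calc f a * (c * (f a)⁻¹ * c⁻¹) = f a * (c * f a * c⁻¹)⁻¹ := by group
            _ = f a * ((a * (f c)⁻¹ * a⁻¹) * (f a)⁻¹) * f c := by rw [h3]; group
            _ = f a * ((f a)⁻¹ * (a * (f c)⁻¹ * a⁻¹)) * f c := by
              rw [hcK _ (hinv a ha _ (U.inv_mem (hfU c hc))) _ (U.inv_mem (hfU a ha))]
            _ = (a * (f c)⁻¹ * a⁻¹) * f c := by group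
            _ = f c * (a * (f c)⁻¹ * a⁻¹) :=
              hcK _ (hinv a ha _ (U.inv_mem (hfU c hc))) _ (hfU c hc))
        (fun a ha b hb => by
          have h1 := hcK (a * (f c)⁻¹ * a⁻¹) (hinv a ha _ (U.inv_mem (hfU c hc)))
            (a * f c * a⁻¹) (hinv a ha _ (hfU c hc))
          calc f c * (a * b * (f c)⁻¹ * (a * b)⁻¹)
              = f c * ((a * (f c)⁻¹ * a⁻¹) * (a * f c * a⁻¹)) * (a * (b * (f c)⁻¹ * b⁻¹) * a⁻¹) := by
                group
            _ = f c * (a * (f c)⁻¹ * a⁻¹) * (a * (f c * (b * (f c)⁻¹ * b⁻¹)) * a⁻¹) := by group)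
      -- `k⁻¹ f c` is fixed by `A`
      have hkU := hIle hk
      have hone : k⁻¹ * f c = 1 := by
        refine hfix _ (hUK (U.mul_mem (U.inv_mem hkU) (hfU c hc))) fun a ha => ?_
        have h1 := hk' a ha
        calc a * (k⁻¹ * f c) * a⁻¹
            = k⁻¹ * (k * (a * k⁻¹ * a⁻¹)) * (a * f c * a⁻¹) := by group
          _ = k⁻¹ * (f c * (a * (f c)⁻¹ * a⁻¹)) * (a * f c * a⁻¹) := by rw [← h1]
          _ = k⁻¹ * f c := by group
      rw [inv_mul_eq_one] at hone
      rwa [← hone]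
    · have hsurj : Function.Surjective d :=
        Finite.injective_iff_surjective.1 ((MonoidHom.ker_eq_bot_iff d).1 hker)
      obtain ⟨u, hu⟩ := hsurj ⟨f c, hfU c hc⟩
      exact ⟨d u, ⟨u, rfl⟩, congrArg Subtype.val hu⟩
  obtain ⟨_, ⟨u, rfl⟩, hu⟩ := hfc
  simp only [Subgroup.coe_subtype, hd] at hu
  -- correct `f` by `u`; the result takes values in `W`
  set g : G → G := fun a => (u : G)⁻¹ * f a * (a * (u : G) * a⁻¹) with hg
  have hgc : g c = 1 := by rw [hg]; simp only; rw [← hu]; group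
  have hgU : ∀ a ∈ A, g a ∈ U := fun a ha =>
    U.mul_mem (U.mul_mem (U.inv_mem u.2) (hfU a ha)) (hinv a ha _ u.2)
  have hgf : ∀ a ∈ A, ∀ b ∈ A, g (a * b) = g a * (a * g b * a⁻¹) := by
    intro a ha b hb
    simp only [hg]
    rw [hf a ha b hb]
    group
  have hgW : ∀ a ∈ A, g a ∈ W := by
    intro a ha
    rw [hWmem]
    refine ⟨hgU a ha, ?_⟩
    have e1 := hgf a ha c hc
    have e2 := hgf c hc a ha
    rw [hgc, hAA a ha c hc] at e1
    rw [hgc, e1] at e2
    simpa using e2.symm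
  obtain ⟨w, hw, hw'⟩ := ih _ hWlt W rfl (hWle.trans hUK) hWinv g hgW hgf
  refine ⟨(u : G) * w, U.mul_mem u.2 (hWle hw), fun a ha => ?_⟩
  have h1 := hw' a ha
  simp only [hg] at h1
  calc f a = (u : G) * ((u : G)⁻¹ * f a * (a * (u : G) * a⁻¹)) * (a * (u : G) * a⁻¹)⁻¹ := by group
    _ = (u : G) * (w * (a * w⁻¹ * a⁻¹)) * (a * (u : G) * a⁻¹)⁻¹ := by rw [h1]
    _ = (u : G) * w * (a * ((u : G) * w)⁻¹ * a⁻¹) := by group

/-- Complements to an abelian normal subgroup are conjugate when one of them is abelian and has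
no nontrivial fixed point. -/
theorem exists_conj_eq_of_fixedPointFree (A A' K : Subgroup G) [IsMulCommutative A]
    [IsMulCommutative K] [hKn : K.Normal] (hAK : A ⊓ K = ⊥) (hA'K : A' ⊓ K = ⊥) (hsup : A' ⊔ K = A ⊔ K)
    (hfix : ∀ k ∈ K, (∀ a ∈ A, a * k * a⁻¹ = k) → k = 1) :
    ∃ k ∈ K, A' = MulAut.conj k • A := by
  classical
  have hex : ∀ a : G, ∃ k : G, a ∈ A → k ∈ K ∧ k * a ∈ A' := by
    intro a
    by_cases ha : a ∈ A
    · obtain ⟨k, hk, a', ha', he⟩ := Subgroup.mem_sup_of_normal_left.1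
        (show a ∈ K ⊔ A' by rw [sup_comm, hsup]; exact Subgroup.mem_sup_left ha)
      exact ⟨k⁻¹, fun _ => ⟨K.inv_mem hk, by rwa [← he, inv_mul_cancel_left]⟩⟩
    · exact ⟨1, fun h => absurd h ha⟩
  choose f hf using hex
  have huniq : ∀ a k k', a ∈ A → k ∈ K → k' ∈ K → k * a ∈ A' → k' * a ∈ A' → k = k' := by
    intro a k k' _ hk hk' h h'
    have h1 : k * a * (k' * a)⁻¹ ∈ A' ⊓ K :=
      ⟨A'.mul_mem h (A'.inv_mem h'),
        (show k * a * (k' * a)⁻¹ = k * k'⁻¹ by group) ▸ K.mul_mem hk (K.inv_mem hk')⟩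
    rw [hA'K, Subgroup.mem_bot] at h1
    rw [← mul_inv_eq_one, ← h1]; group
  obtain ⟨k, hk, hk'⟩ := crossed_hom_principal A K hfix (Nat.card K) K rfl le_rfl
    (fun a _ u hu => hKn.conj_mem u hu a) f (fun a ha => (hf a ha).1)
    (fun a ha b hb => huniq (a * b) _ _ (A.mul_mem ha hb) (hf _ (A.mul_mem ha hb)).1
      (K.mul_mem (hf a ha).1 (hKn.conj_mem _ (hf b hb).1 a)) (hf _ (A.mul_mem ha hb)).2 (by
        have h1 := A'.mul_mem (hf a ha).2 (hf b hb).2
        convert h1 using 1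
        group))
  refine ⟨k, hk, ?_⟩
  have hconj : ∀ a ∈ A, k * a * k⁻¹ ∈ A' := by
    intro a ha
    have h1 := (hf a ha).2
    rw [hk' a ha] at h1
    convert h1 using 1
    group
  refine le_antisymm ?_ ?_
  · intro x hx
    obtain ⟨k1, hk1, a, ha, rfl⟩ := Subgroup.mem_sup_of_normal_left.1
      (show x ∈ K ⊔ A by rw [sup_comm, ← hsup]; exact Subgroup.mem_sup_left hx)
    have h1 := huniq a k1 (f a) ha hk1 (hf a ha).1 hx (hf a ha).2
    rw [mem_conj_smul_iff, h1, hk' a ha]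
    convert ha using 1
    group
  · intro x hx
    rw [mem_conj_smul_iff] at hx
    have := hconj _ hx
    convert this using 1
    group

/-- For `G = AB` with abelian factors with trivial cores, `A` meets `G'` trivially and has no
nontrivial fixed point on it. -/
theorem fix_trivial {A B : Subgroup G} [IsMulCommutative A] [IsMulCommutative B]
    (h : IsFactorization A B) (hA : ∀ N : Subgroup G, N.Normal → N ≤ A → N = ⊥)
    (hB : ∀ N : Subgroup G, N.Normal → N ≤ B → N = ⊥) :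
    A ⊓ commutator G = ⊥ ∧ ∀ k ∈ commutator G, (∀ a ∈ A, a * k * a⁻¹ = k) → k = 1 := by
  set K := commutator G
  haveI : IsMulCommutative K := by
    rw [← Subgroup.commutator_self_eq_bot_iff]
    have := Cfsg.Agent.S0572.result A B h
    rwa [derivedSeries_succ, derivedSeries_one] at this
  set H := A ⊔ K
  have hHn : H.Normal := Subgroup.Normal.of_commutator_le G le_sup_right
  set Z := H ⊓ Subgroup.centralizer (H : Set G)
  have hZA : Z ≤ A := by
    intro z hz
    obtain ⟨a, ha, b, hb, rfl⟩ := h z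
    have hbc : ∀ a' ∈ A, a' * b = b * a' := by
      intro a' ha'
      have h1 := Subgroup.mem_centralizer_iff.1 hz.2 a' (Subgroup.mem_sup_left ha')
      calc a' * b = a⁻¹ * (a * a') * b := by group
        _ = a⁻¹ * (a' * a) * b := by rw [setLike_mul_comm ha ha']
        _ = a⁻¹ * (a' * (a * b)) := by group
        _ = a⁻¹ * (a * b * a') := by rw [h1]
        _ = b * a' := by group
    have hbz : b ∈ Subgroup.center G := by
      rw [Subgroup.mem_center_iff]
      intro g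
      obtain ⟨a', ha', b', hb', rfl⟩ := h g
      calc a' * b' * b = a' * (b' * b) := by group
        _ = a' * (b * b') := by rw [setLike_mul_comm hb' hb]
        _ = (a' * b) * b' := by group
        _ = b * a' * b' := by rw [hbc a' ha']
        _ = b * (a' * b') := by group
    have h2 := hB (Subgroup.zpowers b)
      ⟨fun x hx g => by
        have hxz : x ∈ Subgroup.center G := (Subgroup.zpowers_le.2 hbz) hx
        rw [Subgroup.mem_center_iff.1 hxz g, mul_inv_cancel_right]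
        exact hx⟩
      (Subgroup.zpowers_le.2 hb)
    rw [Subgroup.zpowers_eq_bot] at h2
    simpa [h2] using ha
  have hZ : Z = ⊥ := hA Z inferInstance hZA
  have hmem : ∀ k ∈ K, (∀ a ∈ A, a * k * a⁻¹ = k) → k = 1 := by
    intro k hk hfix
    have h1 : k ∈ Z := by
      refine ⟨Subgroup.mem_sup_right hk, ?_⟩
      have hle : H ≤ Subgroup.centralizer {k} := by
        refine sup_le (fun a ha => ?_) (fun x hx => ?_)
        · rw [Subgroup.mem_centralizer_singleton_iff]
          exact mul_inv_eq_iff_eq_mul.1 (hfix a ha)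
        · rw [Subgroup.mem_centralizer_singleton_iff]
          exact setLike_mul_comm hx hk
      refine Subgroup.mem_centralizer_iff.2 fun x hx => ?_
      exact Subgroup.mem_centralizer_singleton_iff.1 (hle hx)
    rw [hZ, Subgroup.mem_bot] at h1
    exact h1
  refine ⟨(Subgroup.eq_bot_iff_forall _).2 fun x hx => ?_, hmem⟩
  exact hmem x hx.2 fun a ha => by rw [setLike_mul_comm ha hx.1, mul_inv_cancel_right]

/-- In a nontrivial finite product of two abelian subgroups some nontrivial normal subgroup is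
contained in a factor. -/
theorem exists_normal_le_abelian_factor [Nontrivial G] {A B : Subgroup G} [IsMulCommutative A]
    [IsMulCommutative B] (h : IsFactorization A B) :
    ∃ N : Subgroup G, N.Normal ∧ N ≠ ⊥ ∧ (N ≤ A ∨ N ≤ B) := by
  by_contra hcon
  have hA : ∀ N : Subgroup G, N.Normal → N ≤ A → N = ⊥ := fun N hn hle =>
    by_contra fun hne => hcon ⟨N, hn, hne, Or.inl hle⟩
  have hB : ∀ N : Subgroup G, N.Normal → N ≤ B → N = ⊥ := fun N hn hle =>
    by_contra fun hne => hcon ⟨N, hn, hne, Or.inr hle⟩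
  obtain ⟨hAK, hfixA⟩ := fix_trivial h hA hB
  obtain ⟨hBK, hfixB⟩ := fix_trivial h.symm hB hA
  set K := commutator G with hK
  haveI : IsMulCommutative K := by
    rw [← Subgroup.commutator_self_eq_bot_iff]
    have := Cfsg.Agent.S0572.result A B h
    rwa [derivedSeries_succ, derivedSeries_one] at this
  -- `G = K N(B)`
  have hBn : (B ⊔ K).Normal := Subgroup.Normal.of_commutator_le G le_sup_right
  have hKN : ∀ g : G, ∃ k ∈ K, ∃ n ∈ Subgroup.normalizer (B : Set G), k * n = g := by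
    intro g
    have hsup : MulAut.conj g • B ⊔ K = B ⊔ K := by
      calc MulAut.conj g • B ⊔ K = MulAut.conj g • B ⊔ MulAut.conj g • K := by
            rw [Subgroup.Normal.conj_smul_eq_self g K]
        _ = MulAut.conj g • (B ⊔ K) := (Subgroup.smul_sup _ _ _).symm
        _ = B ⊔ K := Subgroup.Normal.conj_smul_eq_self g _
    have hinf : MulAut.conj g • B ⊓ K = ⊥ := by
      rw [← Subgroup.Normal.conj_smul_eq_self g K, ← Subgroup.smul_inf, hBK, Subgroup.smul_bot]
    obtain ⟨k, hk, he⟩ := exists_conj_eq_of_fixedPointFree B _ K hBK hinf hsup hfixB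
    refine ⟨k, hk, k⁻¹ * g, ?_, mul_inv_cancel_left k g⟩
    have h2 : MulAut.conj (k⁻¹ * g) • B = B := by
      rw [conj_mul_smul, he, ← conj_mul_smul, inv_mul_cancel, map_one, one_smul]
    rw [Subgroup.mem_normalizer_iff]
    intro x
    conv_rhs => rw [← h2, mem_conj_smul_iff]
    group
  -- `N(B) ∩ K = 1`
  have hNK : ∀ x ∈ Subgroup.normalizer (B : Set G), x ∈ K → x = 1 := by
    intro x hxN hxK
    refine hfixB x hxK fun b hb => ?_
    have h1 : b * x * b⁻¹ * x⁻¹ ∈ B ⊓ K := by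
      refine ⟨?_, K.mul_mem ((inferInstance : K.Normal).conj_mem x hxK b) (K.inv_mem hxK)⟩
      have h2 := (Subgroup.mem_normalizer_iff.1 hxN b⁻¹).1 (B.inv_mem hb)
      rw [show b * x * b⁻¹ * x⁻¹ = b * (x * b⁻¹ * x⁻¹) by group]
      exact B.mul_mem hb h2
    rw [hBK, Subgroup.mem_bot] at h1
    exact mul_inv_eq_one.1 h1
  -- the complement `N(B) ∩ (A ⊔ K)` is a conjugate of `A`
  set A' := Subgroup.normalizer (B : Set G) ⊓ (A ⊔ K)
  have hA'K : A' ⊓ K = ⊥ :=
    (Subgroup.eq_bot_iff_forall _).2 fun x hx => hNK x hx.1.1 hx.2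
  have hsup : A' ⊔ K = A ⊔ K := by
    refine le_antisymm (sup_le inf_le_right le_sup_right) fun x hx => ?_
    obtain ⟨k, hk, n, hn, rfl⟩ := hKN x
    refine mul_mem (Subgroup.mem_sup_right hk) (Subgroup.mem_sup_left ⟨hn, ?_⟩)
    have := mul_mem (inv_mem (Subgroup.mem_sup_right hk : k ∈ A ⊔ K)) hx
    rwa [inv_mul_cancel_left] at this
  obtain ⟨k, -, hk⟩ := exists_conj_eq_of_fixedPointFree A A' K hAK hA'K hsup hfixA
  have hfac := h.conj_pair k 1
  rw [map_one, one_smul, ← hk] at hfac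
  have htop : Subgroup.normalizer (B : Set G) = ⊤ := by
    rw [eq_top_iff]
    intro g _
    obtain ⟨a, ha, b, hb, rfl⟩ := hfac g
    exact mul_mem ha.1 (Subgroup.le_normalizer hb)
  have hKb : K = ⊥ :=
    (Subgroup.eq_bot_iff_forall _).2 fun x hx => hNK x (htop ▸ Subgroup.mem_top x) hx
  -- so `G` is abelian and both factors are trivial
  have hcomm : IsMulCommutative G := (commutator_eq_bot_iff G).1 hKb
  have hnorm : ∀ S : Subgroup G, S.Normal := fun S =>
    ⟨fun x hx g => by rwa [hcomm.is_comm.comm g x, mul_inv_cancel_right]⟩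
  obtain ⟨g, hg⟩ := exists_ne (1 : G)
  obtain ⟨a, ha, b, hb, rfl⟩ := h g
  rw [hA A (hnorm A) le_rfl, Subgroup.mem_bot] at ha
  rw [hB B (hnorm B) le_rfl, Subgroup.mem_bot] at hb
  exact hg (by rw [ha, hb, one_mul])

end Cfsg.Agent.Lib.Factorized
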