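import Cfsg.Agent.Lib.Factorized.FocalSeries

/-!
A nilpotent Hall subgroup controlling its own fusion has a normal complement.
-/

set_option autoImplicit false

open scoped commutatorElement

namespace Cfsg.Agent.Lib.Factorized

universe u

variable {G : Type u} [Group G]

/-- A nilpotent Hall subgroup `H` in which `G`-conjugate elements are `H`-conjugate has a normal
complement. -/
theorem normal_complement_of_control [Finite G] {H : Subgroup G} (hnil : Group.IsNilpotent H)
    (hHall : (Nat.card H).Coprime H.index)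
    (hctrl : ∀ x ∈ H, ∀ u : G, u * x * u⁻¹ ∈ H → ∃ h ∈ H, h * x * h⁻¹ = u * x * u⁻¹) :
    ∃ N : Subgroup G, N.Normal ∧ Subgroup.IsComplement' N H := by
  obtain ⟨n, hn⟩ := H.isNilpotent_iff_lowerCentralSeries.1 hnil
  refine focal_normal_complement n H hHall (le_bot_iff.1 (hn ▸ ?_))
  clear hn
  induction n with
  | zero => exact le_rfl
  | succ n ih =>
    rw [Function.iterate_succ_apply', Subgroup.lowerCentralSeries_succ]
    refine (focalSubgroup_mono ih).trans ?_
    have hL : H.lowerCentralSeries n ≤ H := H.lowerCentralSeries_antitone (Nat.zero_le n)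
    rw [Subgroup.focalSubgroup_def, Subgroup.closure_le]
    rintro g ⟨hg, x, hx, u, rfl⟩
    have hy : u * x⁻¹ * u⁻¹ ∈ H := by
      have h1 := H.mul_mem (H.inv_mem (hL hx)) (hL hg)
      simpa [commutatorElement_def, mul_assoc] using h1
    obtain ⟨h, hh, he⟩ := hctrl x⁻¹ (H.inv_mem (hL hx)) u hy
    have : ⁅x, u⁆ = ⁅x, h⁆ := by
      calc ⁅x, u⁆ = x * (u * x⁻¹ * u⁻¹) := by rw [commutatorElement_def]; group
        _ = x * (h * x⁻¹ * h⁻¹) := by rw [he]
        _ = ⁅x, h⁆ := by rw [commutatorElement_def]; group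
    rw [this]
    exact Subgroup.commutator_mem_commutator hx hh

end Cfsg.Agent.Lib.Factorized
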