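import Mathlib
import Cfsg.Agent.Lib.NilpotentPerm.Basic
import Cfsg.Agent.Lib.Supersolvable.Schmidt

/-!
Wielandt's theorem on nilpotent Hall subgroups: every subgroup whose order involves only primes
of a nilpotent Hall subgroup lies in a conjugate of it.
-/

set_option autoImplicit false

open Pointwise

namespace Cfsg.Agent.Lib.Factorized

universe u

/-- A nontrivial finite group that is nilpotent or minimal non-nilpotent has a normal Sylow
subgroup for a prime dividing its order. -/
theorem exists_normal_sylow_of_all_nilpotent (K : Type u) [Group K] [Finite K] [Nontrivial K]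
    (h : ∀ U : Subgroup K, U ≠ ⊤ → Group.IsNilpotent U) :
    ∃ p : ℕ, p.Prime ∧ p ∣ Nat.card K ∧ ∃ P : Sylow p K, (P : Subgroup K).Normal := by
  classical
  by_cases hK : Group.IsNilpotent K
  · obtain ⟨p, hp, hpd⟩ := Nat.exists_prime_and_dvd (Finite.one_lt_card (α := K)).ne'
    haveI := Fact.mk hp
    obtain ⟨P⟩ := (inferInstance : Nonempty (Sylow p K))
    exact ⟨p, hp, hpd, P, Supersolvable.isNilpotent_iff_all_sylow_normal.1 hK p ⟨hp⟩ P⟩
  · obtain ⟨p, q, hp, hq, _, P, Q, _, hQn, hsup, hPn⟩ :=
      Supersolvable.exists_schmidt_structure hK h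
    haveI := Fact.mk hp
    haveI := Fact.mk hq
    refine ⟨q, hq, ?_, Q, hQn⟩
    by_contra hqd
    have hQ : (Q : Subgroup K) = ⊥ := by
      rw [Subgroup.eq_bot_iff_card, Q.card_eq_multiplicity,
        Nat.factorization_eq_zero_of_not_dvd hqd, pow_zero]
    rw [hQ, sup_bot_eq] at hsup
    exact hPn (by rw [hsup]; infer_instance)

theorem wielandt_aux (n : ℕ) :
    ∀ (G : Type u) [Group G] [Finite G] (H : Subgroup G), Group.IsNilpotent H →
      (Nat.card H).Coprime H.index → Nat.card H = n →
      ∀ K : Subgroup G, (∀ p : ℕ, p.Prime → p ∣ Nat.card K → p ∣ Nat.card H) →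
        ∃ x : G, K ≤ MulAut.conj x • H := by
  induction n using Nat.strong_induction_on with
  | _ n ih =>
  intro G _ _ H hnil hHall hn K
  induction hm : Nat.card K using Nat.strong_induction_on generalizing K with
  | _ m ihK =>
  intro hK
  by_cases hKb : K = ⊥
  · exact ⟨1, hKb ▸ bot_le⟩
  haveI : Nontrivial K := (Subgroup.nontrivial_iff_ne_bot K).2 hKb
  -- proper subgroups of `K` lie in conjugates of `H`, hence are nilpotent
  have hprop : ∀ U : Subgroup K, U ≠ ⊤ → Group.IsNilpotent U := by
    intro U hU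
    have hlt : Nat.card (U.map K.subtype) < m := by
      rw [Subgroup.card_map_of_injective K.subtype_injective, ← hm]
      exact lt_of_le_of_ne (Subgroup.card_le_card_group U)
        fun he => hU (Subgroup.eq_top_of_card_eq U he)
    obtain ⟨x, hx⟩ := ihK _ hlt (U.map K.subtype) rfl fun p hp hpd =>
      hK p hp (hm ▸ hpd.trans (Subgroup.card_dvd_of_le (Subgroup.map_subtype_le U)))
    haveI := hnil
    haveI : Group.IsNilpotent ↥(MulAut.conj x • H) :=
      Group.nilpotent_of_mulEquiv (Subgroup.equivSMul (MulAut.conj x) H)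
    have h1 : Group.IsNilpotent ↥((U.map K.subtype).subgroupOf (MulAut.conj x • H)) := inferInstance
    haveI : Group.IsNilpotent ↥(U.map K.subtype) :=
      Group.nilpotent_of_mulEquiv (Subgroup.subgroupOfEquivOfLe hx)
    exact Group.nilpotent_of_mulEquiv (U.equivMapOfInjective K.subtype K.subtype_injective).symm
  obtain ⟨p, hp, hpK, P, hPn⟩ := exists_normal_sylow_of_all_nilpotent K hprop
  haveI := Fact.mk hp
  haveI := hPn
  have hpH : p ∣ Nat.card H := hK p hp (hm ▸ hpK)
  set PG := (P : Subgroup K).map K.subtype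
  -- a Sylow `p`-subgroup of `H` is one of `G`
  obtain ⟨PH⟩ := (inferInstance : Nonempty (Sylow p H))
  have hpI : ¬ p ∣ H.index := fun h => hp.not_dvd_one (hHall ▸ Nat.dvd_gcd hpH h)
  obtain ⟨S, hS⟩ := (PH.2.map H.subtype).exists_le_sylow
  have hSeq : (PH : Subgroup H).map H.subtype = (S : Subgroup G) := by
    refine Subgroup.eq_of_le_of_card_ge hS ?_
    rw [Subgroup.card_map_of_injective H.subtype_injective, PH.card_eq_multiplicity,
      S.card_eq_multiplicity, ← H.card_mul_index,
      Nat.factorization_mul Nat.card_pos.ne' Subgroup.index_ne_zero_of_finite, Finsupp.add_apply,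
      Nat.factorization_eq_zero_of_not_dvd hpI, add_zero]
  obtain ⟨T, hT⟩ := (P.2.map K.subtype).exists_le_sylow
  obtain ⟨x, hx⟩ := MulAction.exists_smul_eq G S T
  -- the complement of the Sylow subgroup in `H`
  have hPHn : (PH : Subgroup H).Normal :=
    Supersolvable.isNilpotent_iff_all_sylow_normal.1 hnil p ⟨hp⟩ PH
  haveI := hPHn
  obtain ⟨W, hW⟩ := Subgroup.exists_right_complement'_of_coprime PH.card_coprime_index
  set WG := MulAut.conj x • (W.map H.subtype)
  have hWcard : Nat.card WG = Nat.card W := by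
    rw [← Nat.card_congr (Subgroup.equivSMul (MulAut.conj x) (W.map H.subtype)).toEquiv,
      Subgroup.card_map_of_injective H.subtype_injective]
  have hWcop : (Nat.card (PH : Subgroup H)).Coprime (Nat.card W) := by
    rw [← hW.symm.index_eq_card]
    exact PH.card_coprime_index
  have hmulW : Nat.card (PH : Subgroup H) * Nat.card W = Nat.card H := hW.card_mul_card
  have hWle : WG ≤ MulAut.conj x • H :=
    Subgroup.pointwise_smul_le_pointwise_smul_iff.2 (Subgroup.map_subtype_le W)
  have hPGle : PG ≤ MulAut.conj x • (PH : Subgroup H).map H.subtype := by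
    rw [hSeq, ← Sylow.coe_subgroup_smul, hx]
    exact hT
  have hWcent : WG ≤ Subgroup.centralizer (PG : Set G) := by
    intro w hw
    rw [Subgroup.mem_centralizer_iff]
    intro z hz
    obtain ⟨_, ⟨w', hw', rfl⟩, rfl⟩ := Subgroup.mem_smul_pointwise_iff_exists _ _ _ |>.1 hw
    obtain ⟨_, ⟨z', hz', rfl⟩, rfl⟩ := Subgroup.mem_smul_pointwise_iff_exists _ _ _ |>.1 (hPGle hz)
    have hcomm : z' * w' = w' * z' :=
      NilpotentPerm.commute_of_coprime_orderOf hnil ((hWcop.of_dvd
        ((PH : Subgroup H).orderOf_dvd_natCard hz') (W.orderOf_dvd_natCard hw')))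
    have h1 := congrArg (fun t : H => MulAut.conj x • (t : G)) hcomm
    simpa [smul_mul'] using h1
  set N := Subgroup.normalizer (PG : Set G)
  have hWN : WG ≤ N := hWcent.trans (Subgroup.centralizer_le_normalizer _)
  have hKN : K ≤ N := (Subgroup.normal_subgroupOf_iff_le_normalizer (Subgroup.map_subtype_le _)).1
    (by rw [Subgroup.subgroupOf, Subgroup.comap_map_eq_self_of_injective K.subtype_injective]; infer_instance)
  obtain ⟨Q, hQ⟩ := Subgroup.exists_right_complement'_of_coprime P.card_coprime_index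
  set QG := Q.map K.subtype
  set W' := WG.subgroupOf N
  set Q' := QG.subgroupOf N
  have hQN : QG ≤ N := (Subgroup.map_subtype_le Q).trans hKN
  have hW'card : Nat.card W' = Nat.card W := by
    rw [← hWcard]; exact Nat.card_congr (Subgroup.subgroupOfEquivOfLe hWN).toEquiv
  have hWnil : Group.IsNilpotent W' := by
    haveI := hnil
    haveI : Group.IsNilpotent ↥(W.map H.subtype) :=
      Group.nilpotent_of_mulEquiv (W.equivMapOfInjective H.subtype H.subtype_injective)
    haveI : Group.IsNilpotent ↥WG :=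
      Group.nilpotent_of_mulEquiv (Subgroup.equivSMul (MulAut.conj x) (W.map H.subtype))
    exact Group.nilpotent_of_mulEquiv (Subgroup.subgroupOfEquivOfLe hWN).symm
  have hWhall : (Nat.card W').Coprime W'.index := by
    rw [hW'card]
    refine Nat.Coprime.coprime_dvd_right
      ((dvd_mul_right W'.index N.index).trans (dvd_of_eq (Subgroup.relIndex_mul_index hWN))) ?_
    have hidx : WG.index = H.index * Nat.card (PH : Subgroup H) := by
      have h1 := WG.card_mul_index
      rw [hWcard, ← H.card_mul_index, ← hmulW] at h1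
      refine Nat.eq_of_mul_eq_mul_left (Nat.card_pos (α := W)) ?_
      rw [h1]; ring
    rw [hidx]
    exact Nat.Coprime.mul_right (hHall.coprime_dvd_left (Subgroup.card_subgroup_dvd_card W)) hWcop.symm
  have hWlt : Nat.card W' < n := by
    rw [hW'card, ← hn, ← hmulW]
    refine lt_mul_left Nat.card_pos ?_
    rw [Finite.one_lt_card_iff_nontrivial, Subgroup.nontrivial_iff_ne_bot]
    exact PH.ne_bot_of_dvd_card hpH
  have hQcard : Nat.card Q' = Nat.card Q := by
    rw [Nat.card_congr (Subgroup.subgroupOfEquivOfLe hQN).toEquiv]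
    exact Subgroup.card_map_of_injective K.subtype_injective
  have hQcop : ¬ p ∣ Nat.card Q := by
    rw [← hQ.symm.index_eq_card]
    exact P.not_dvd_index
  obtain ⟨y, hy⟩ := ih _ hWlt N W' hWnil hWhall rfl Q' (fun q hq hqd => by
    rw [hQcard] at hqd
    rw [hW'card]
    have h1 : q ∣ Nat.card H := hK q hq (hm ▸ hqd.trans (Subgroup.card_subgroup_dvd_card Q))
    rw [← hmulW, hq.dvd_mul] at h1
    refine h1.resolve_left fun h2 => hQcop ?_
    have h3 : q ∣ p ^ (Nat.card H).factorization p := PH.card_eq_multiplicity ▸ h2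
    rwa [(Nat.prime_dvd_prime_iff_eq hq hp).1 (hq.dvd_of_dvd_pow h3)] at hqd)
  refine ⟨(y : G) * x, fun k hk => ?_⟩
  obtain ⟨⟨a, b⟩, hab⟩ := hQ.2 ⟨k, hk⟩
  have hk' : k = ((a : K) : G) * ((b : K) : G) := (congrArg Subtype.val hab).symm
  rw [hk', map_mul, mul_smul]
  refine mul_mem ?_ ?_
  · rw [Subgroup.mem_pointwise_smul_iff_inv_smul_mem, ← map_inv, MulAut.smul_def,
      MulAut.conj_apply, inv_inv]
    refine Subgroup.pointwise_smul_le_pointwise_smul_iff.2 (Subgroup.map_subtype_le _) (hPGle ?_)
    exact ((Subgroup.mem_normalizer_iff''.1 y.2) _).1 (Subgroup.mem_map_of_mem K.subtype a.2)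
  · rw [Subgroup.mem_pointwise_smul_iff_inv_smul_mem, ← map_inv, MulAut.smul_def,
      MulAut.conj_apply, inv_inv]
    have h1 := hy (show (⟨((b : K) : G), hQN (Subgroup.mem_map_of_mem K.subtype b.2)⟩ : N) ∈ Q' from
      Subgroup.mem_map_of_mem K.subtype b.2)
    rw [Subgroup.mem_pointwise_smul_iff_inv_smul_mem, ← map_inv, MulAut.smul_def,
      MulAut.conj_apply, inv_inv] at h1
    exact hWle h1

/-- Wielandt's theorem on nilpotent Hall subgroups. -/
theorem exists_conj_ge_of_nilpotent_hall {G : Type u} [Group G] [Finite G] (H K : Subgroup G)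
    (hH : Group.IsNilpotent H) (hHall : (Nat.card H).Coprime H.index)
    (hK : ∀ p : ℕ, p.Prime → p ∣ Nat.card K → p ∣ Nat.card H) :
    ∃ x : G, K ≤ MulAut.conj x • H :=
  wielandt_aux (Nat.card H) G H hH hHall rfl K hK

end Cfsg.Agent.Lib.Factorized
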