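import Mathlib
import Cfsg.Agent.Lib.Core.Fitting
import Cfsg.Agent.Lib.Core.Nilpotent
import Cfsg.Agent.Lib.NilpotentPerm.Basic
import Cfsg.Agent.Lib.Factorized.Basic

/-!
The Sylow subgroup `ppart A p` of a nilpotent subgroup `A`, as a subgroup of the whole group.
-/

set_option autoImplicit false

open Pointwise

namespace Cfsg.Agent.Lib.Factorized

variable {G : Type*} [Group G] [Finite G]

/-- For a nilpotent subgroup `A`, its Sylow `p`-subgroup. -/
def ppart (A : Subgroup G) (p : ℕ) : Subgroup G :=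
  (Cfsg.pCore p ↥A).map A.subtype

variable {A : Subgroup G} {p : ℕ}

theorem ppart_le : ppart A p ≤ A := Subgroup.map_subtype_le _

theorem isPGroup_ppart [Fact p.Prime] : IsPGroup p (ppart A p) :=
  (PSolvable.pCore_isPGroup).map A.subtype

theorem le_normalizer_ppart : A ≤ Subgroup.normalizer (ppart A p : Set G) := by
  haveI := PSolvable.pCore_characteristic (p := p) (G := ↥A)
  refine (Subgroup.normal_subgroupOf_iff_le_normalizer ppart_le).1 ?_
  rw [ppart, Subgroup.subgroupOf, Subgroup.comap_map_eq_self_of_injective A.subtype_injective]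
  infer_instance

theorem sylow_eq_pCore [Fact p.Prime] (hA : Group.IsNilpotent A) (P : Sylow p A) :
    (P : Subgroup A) = Cfsg.pCore p ↥A := by
  refine le_antisymm ?_ (PSolvable.pCore_le_sylow P)
  exact PSolvable.le_pCore
    (hN := (Group.isNilpotent_of_finite_tfae (G := A)).out 0 3 rfl rfl |>.mp hA p inferInstance P) P.2

theorem card_ppart [Fact p.Prime] (hA : Group.IsNilpotent A) :
    Nat.card (ppart A p) = p ^ (Nat.card A).factorization p := by
  obtain ⟨P⟩ := (inferInstance : Nonempty (Sylow p A))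
  rw [ppart, Subgroup.card_map_of_injective A.subtype_injective, ← sylow_eq_pCore hA P,
    P.card_eq_multiplicity]

theorem le_ppart [Fact p.Prime] (hA : Group.IsNilpotent A) {R : Subgroup G} (hRA : R ≤ A)
    (hR : IsPGroup p R) : R ≤ ppart A p := by
  obtain ⟨P, hP⟩ := (hR.comap_of_injective A.subtype A.subtype_injective).exists_le_sylow
  intro x hx
  exact ⟨⟨x, hRA hx⟩, (sylow_eq_pCore hA P) ▸ hP hx, rfl⟩

theorem ppart_ne_bot [Fact p.Prime] (hA : Group.IsNilpotent A) (hp : p ∣ Nat.card A) :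
    ppart A p ≠ ⊥ := by
  obtain ⟨P⟩ := (inferInstance : Nonempty (Sylow p A))
  rw [ppart, Ne, Subgroup.map_eq_bot_iff_of_injective _ A.subtype_injective,
    ← sylow_eq_pCore hA P]
  exact P.ne_bot_of_dvd_card hp

theorem commute_ppart {q : ℕ} [hp : Fact p.Prime] [hq : Fact q.Prime] (hA : Group.IsNilpotent A)
    (hpq : p ≠ q) {x y : G} (hx : x ∈ ppart A p) (hy : y ∈ ppart A q) : x * y = y * x := by
  obtain ⟨i, hi⟩ := IsPGroup.iff_orderOf.1 (isPGroup_ppart (A := A) (p := p)) ⟨x, hx⟩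
  obtain ⟨j, hj⟩ := IsPGroup.iff_orderOf.1 (isPGroup_ppart (A := A) (p := q)) ⟨y, hy⟩
  rw [← Subgroup.orderOf_coe] at hi hj
  have h1 := NilpotentPerm.commute_of_coprime_orderOf hA (a := ⟨x, ppart_le hx⟩)
    (b := ⟨y, ppart_le hy⟩) (by
      rw [← Subgroup.orderOf_coe, ← Subgroup.orderOf_coe, hi, hj]
      exact Nat.Coprime.pow i j ((Nat.coprime_primes hp.out hq.out).2 hpq))
  exact congrArg Subtype.val h1

/-- A nilpotent subgroup is generated by its Sylow subgroups. -/
theorem le_of_forall_ppart_le (hA : Group.IsNilpotent A) {K : Subgroup G}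
    (h : ∀ p : ℕ, p.Prime → p ∣ Nat.card A → ppart A p ≤ K) : A ≤ K := by
  rw [← Subgroup.subgroupOf_eq_top]
  refine Fitting.eq_top_of_sylow_le fun p hp => ?_
  haveI := Fact.mk hp
  obtain ⟨P⟩ := (inferInstance : Nonempty (Sylow p A))
  refine ⟨P, ?_⟩
  by_cases hpd : p ∣ Nat.card A
  · exact fun x hx => h p hp hpd
      (Subgroup.mem_map_of_mem A.subtype (sylow_eq_pCore hA P ▸ hx : x ∈ Cfsg.pCore p ↥A))
  · have hb : (P : Subgroup A) = ⊥ := by
      rw [Subgroup.eq_bot_iff_card, P.card_eq_multiplicity,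
        Nat.factorization_eq_zero_of_not_dvd hpd, pow_zero]
    exact hb ▸ bot_le

/-- Each Sylow subgroup of a nilpotent subgroup contains a nontrivial element central in it. -/
theorem exists_central_ppart [Fact p.Prime] (hA : Group.IsNilpotent A) (hp : p ∣ Nat.card A) :
    ∃ z ∈ ppart A p, z ≠ 1 ∧ ∀ a ∈ A, a * z = z * a := by
  haveI := hA
  haveI := PSolvable.pCore_characteristic (p := p) (G := ↥A)
  have hne : Cfsg.pCore p ↥A ≠ ⊥ := fun h => ppart_ne_bot hA hp (by rw [ppart, h, Subgroup.map_bot])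
  obtain ⟨⟨z, hz⟩, hz1⟩ :=
    Subgroup.ne_bot_iff_exists_ne_one.1 (Nilp.inf_center_ne_bot_of_normal (hN := inferInstance) hne)
  refine ⟨(z : G), Subgroup.mem_map_of_mem A.subtype hz.1, fun h => hz1 ?_, fun a ha => ?_⟩
  · exact Subtype.ext (Subtype.ext h)
  · exact congrArg Subtype.val (Subgroup.mem_center_iff.1 hz.2 ⟨a, ha⟩)

end Cfsg.Agent.Lib.Factorized
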