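import Mathlib
import Cfsg.Agent.Lib.Factorized.PPart
import Cfsg.Agent.Lib.Factorized.NilpotentHall
import Cfsg.Agent.Lib.Burnside.Paqb
import Cfsg.Agent.Lib.Involution.Basic

/-!
Setting for Wielandt's theorem on products of two nilpotent groups of coprime orders: a minimal
counterexample and its elementary properties.
-/

set_option autoImplicit false

open Pointwise

namespace Cfsg.Agent.Lib.Factorized

universe u

variable {G : Type u} [Group G]

/-- A minimal counterexample `G = AB` with nilpotent factors of coprime orders. -/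
structure CoprimeCtx (A B : Subgroup G) : Prop where
  finite : Finite G
  simple : IsSimpleGroup G
  nonsolv : ¬ Group.IsSolvable G
  nilA : Group.IsNilpotent A
  nilB : Group.IsNilpotent B
  cop : (Nat.card A).Coprime (Nat.card B)
  fac : IsFactorization A B
  ih : ∀ L : Subgroup G, L ≠ ⊤ →
    (∀ g ∈ L, ∃ a ∈ A ⊓ L, ∃ b ∈ B ⊓ L, g = a * b) → Group.IsSolvable L

namespace CoprimeCtx

variable {A B : Subgroup G} (c : CoprimeCtx A B)

include c

theorem symm : CoprimeCtx B A where
  finite := c.finite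
  simple := c.simple
  nonsolv := c.nonsolv
  nilA := c.nilB
  nilB := c.nilA
  cop := c.cop.symm
  fac := c.fac.symm
  ih := fun L hL h => c.ih L hL fun g hg => by
    obtain ⟨b, hb, a, ha, hab⟩ := h g⁻¹ (L.inv_mem hg)
    refine ⟨a⁻¹, inv_mem ha, b⁻¹, inv_mem hb, ?_⟩
    rw [← mul_inv_rev, ← hab, inv_inv]

theorem eq_bot_or_top (N : Subgroup G) [N.Normal] : N = ⊥ ∨ N = ⊤ :=
  c.simple.eq_bot_or_eq_top_of_normal N inferInstance

theorem inf_eq_bot : A ⊓ B = ⊥ :=
  Subgroup.inf_eq_bot_of_coprime c.cop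

theorem card_mul : Nat.card A * Nat.card B = Nat.card G := by
  have := c.finite
  rw [c.fac.card_mul_card, c.inf_eq_bot, Subgroup.card_bot, mul_one]

theorem A_ne_top : A ≠ ⊤ := by
  intro h
  apply c.nonsolv
  have h1 := c.nilA
  rw [h, Group.isNilpotent_top] at h1
  infer_instance

theorem A_ne_bot : A ≠ ⊥ := by
  intro h
  refine c.symm.A_ne_top (eq_top_iff.2 fun g _ => ?_)
  obtain ⟨a, ha, b, hb, rfl⟩ := c.fac g
  rw [h, Subgroup.mem_bot] at ha
  rwa [ha, one_mul]

theorem index_eq : A.index = Nat.card B := by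
  have := c.finite
  refine Nat.eq_of_mul_eq_mul_left (Nat.card_pos (α := A)) ?_
  rw [A.card_mul_index, c.card_mul]

theorem hall : (Nat.card A).Coprime A.index := by
  rw [c.index_eq]; exact c.cop

theorem dvd_card_or {p : ℕ} (hp : p.Prime) (h : p ∣ Nat.card G) :
    p ∣ Nat.card A ∨ p ∣ Nat.card B := by
  rw [← c.card_mul] at h
  exact hp.dvd_mul.1 h

theorem not_dvd_card {p : ℕ} (hp : p.Prime) (hA : p ∣ Nat.card A) : ¬ p ∣ Nat.card B := fun hB =>
  hp.not_dvd_one (c.cop ▸ Nat.dvd_gcd hA hB)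

theorem conj_B (g : G) : ∃ a ∈ A, MulAut.conj g • B = MulAut.conj a • B := by
  obtain ⟨a, ha, b, hb, rfl⟩ := c.fac g
  exact ⟨a, ha, by rw [conj_mul_smul, conj_smul_eq_self_of_mem hb]⟩

theorem normalizer_ne_top {H : Subgroup G} (h1 : H ≠ ⊥) (h2 : H ≠ ⊤) :
    Subgroup.normalizer (H : Set G) ≠ ⊤ := by
  intro h
  haveI := Subgroup.normalizer_eq_top_iff.1 h
  exact (c.eq_bot_or_top H).elim h1 h2

/-- Inside a subgroup factorized by its intersections with `A` and `B`, the intersection with
`A` is a nilpotent Hall subgroup. -/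
theorem hall_subgroupOf {L : Subgroup G} (hL : ∀ g ∈ L, ∃ a ∈ A ⊓ L, ∃ b ∈ B ⊓ L, g = a * b) :
    Group.IsNilpotent ↥(A.subgroupOf L) ∧
      (Nat.card (A.subgroupOf L)).Coprime (A.subgroupOf L).index := by
  have := c.finite
  constructor
  · haveI := c.nilA
    exact Group.nilpotent_of_mulEquiv
      ((MulEquiv.subgroupCongr (Subgroup.inf_subgroupOf_right A L)).symm.trans
        ((Subgroup.subgroupOfEquivOfLe inf_le_right).trans
          (Subgroup.subgroupOfEquivOfLe (inf_le_left : A ⊓ L ≤ A)).symm)).symm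
  have hf : IsFactorization (A.subgroupOf L) (B.subgroupOf L) := by
    intro g
    obtain ⟨a, ha, b, hb, hab⟩ := hL g g.2
    exact ⟨⟨a, ha.2⟩, ha.1, ⟨b, hb.2⟩, hb.1, Subtype.ext hab⟩
  have hcard : ∀ X : Subgroup G, Nat.card (X.subgroupOf L) ∣ Nat.card X := fun X => by
    rw [← Subgroup.inf_subgroupOf_right X L,
      Nat.card_congr (Subgroup.subgroupOfEquivOfLe (inf_le_right : X ⊓ L ≤ L)).toEquiv]
    exact Subgroup.card_dvd_of_le inf_le_left
  have hcop := c.cop.of_dvd (hcard A) (hcard B)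
  have hidx : (A.subgroupOf L).index = Nat.card (B.subgroupOf L) := by
    refine Nat.eq_of_mul_eq_mul_left (Nat.card_pos (α := A.subgroupOf L)) ?_
    rw [Subgroup.card_mul_index, hf.card_mul_card, Subgroup.inf_eq_bot_of_coprime hcop,
      Subgroup.card_bot, mul_one]
  rw [hidx]
  exact hcop

/-- A normal subgroup of a factorized subgroup whose primes lie in `A` is contained in `A`. -/
theorem normal_le {L : Subgroup G} (hL : ∀ g ∈ L, ∃ a ∈ A ⊓ L, ∃ b ∈ B ⊓ L, g = a * b)
    (R : Subgroup L) [R.Normal] (hR : ∀ p : ℕ, p.Prime → p ∣ Nat.card R → p ∣ Nat.card A) :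
    R ≤ A.subgroupOf L := by
  have := c.finite
  obtain ⟨hnil, hhall⟩ := c.hall_subgroupOf hL
  obtain ⟨x, hx⟩ := exists_conj_ge_of_nilpotent_hall (A.subgroupOf L) R hnil hhall fun p hp hpd => by
    have h1 : p ∣ Nat.card L := hpd.trans (Subgroup.card_subgroup_dvd_card R)
    rw [← (A.subgroupOf L).card_mul_index, hp.dvd_mul] at h1
    refine h1.resolve_right fun h2 => ?_
    have h4 : p ∣ Nat.card B := by
      have hb : (A.subgroupOf L).index ∣ Nat.card B := by
        have hf : IsFactorization (A.subgroupOf L) (B.subgroupOf L) := by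
          intro g
          obtain ⟨a, ha, b, hb, hab⟩ := hL g g.2
          exact ⟨⟨a, ha.2⟩, ha.1, ⟨b, hb.2⟩, hb.1, Subtype.ext hab⟩
        have h5 : (A.subgroupOf L).index * Nat.card ↥(A.subgroupOf L ⊓ B.subgroupOf L) =
            Nat.card (B.subgroupOf L) := by
          refine Nat.eq_of_mul_eq_mul_left (Nat.card_pos (α := A.subgroupOf L)) ?_
          rw [← mul_assoc, Subgroup.card_mul_index, hf.card_mul_card]
        refine (Dvd.intro _ h5).trans ?_
        rw [← Subgroup.inf_subgroupOf_right B L,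
          Nat.card_congr (Subgroup.subgroupOfEquivOfLe (inf_le_right : B ⊓ L ≤ L)).toEquiv]
        exact Subgroup.card_dvd_of_le inf_le_left
      exact h2.trans hb
    exact c.not_dvd_card hp (hR p hp hpd) h4
  intro r hr
  have h2 := hx ((inferInstance : R.Normal).conj_mem r hr x)
  rw [mem_conj_smul_iff] at h2
  simpa [mul_assoc] using h2

/-- `A` is not of prime power order. -/
theorem exists_other_prime (r : ℕ) : ∃ p : ℕ, p.Prime ∧ p ∣ Nat.card A ∧ p ≠ r := by
  classical
  have := c.finite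
  haveI := c.simple
  by_contra hcon
  push Not at hcon
  -- a central element of `B` would have a conjugacy class of prime power size
  obtain ⟨q, hq, hqd⟩ := Nat.exists_prime_and_dvd
    (show Nat.card B ≠ 1 from fun h => c.symm.A_ne_bot (Subgroup.card_eq_one.1 h))
  haveI := Fact.mk hq
  obtain ⟨z, hzp, hz1, hzc⟩ := exists_central_ppart c.nilB hqd
  have hBC : B ≤ Subgroup.centralizer {z} := fun b hb =>
    Subgroup.mem_centralizer_singleton_iff.2 (hzc b hb)
  have hne : Subgroup.centralizer ({z} : Set G) ≠ ⊤ := by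
    intro h
    have hzG : z ∈ Subgroup.center G := Subgroup.mem_center_iff.2 fun g =>
      Subgroup.mem_centralizer_singleton_iff.1 (h ▸ Subgroup.mem_top g)
    rcases c.eq_bot_or_top (Subgroup.center G) with h1 | h1
    · exact hz1 (Subgroup.mem_bot.1 (h1 ▸ hzG))
    · exact c.nonsolv (Group.isSolvable_of_comm fun a b =>
        Subgroup.mem_center_iff.1 (h1 ▸ Subgroup.mem_top b) a)
  have hA1 : Nat.card A ≠ 1 := fun h => c.A_ne_bot (Subgroup.card_eq_one.1 h)
  obtain ⟨p, hp, hpA⟩ := Nat.exists_prime_and_dvd hA1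
  have hpr : p = r := hcon p hp hpA
  subst hpr
  have hA : Nat.card A = p ^ (Nat.card A).primeFactorsList.length :=
    Nat.eq_prime_pow_of_unique_prime_dvd Nat.card_pos.ne' fun {d} hd hdd => hcon d hd hdd
  obtain ⟨j, -, hj⟩ := (Nat.dvd_prime_pow hp).1 (hA ▸ (c.symm.index_eq ▸ Subgroup.index_dvd_of_le hBC :
    (Subgroup.centralizer ({z} : Set G)).index ∣ Nat.card A))
  have hjpos : 0 < j := by
    rcases Nat.eq_zero_or_pos j with rfl | h
    · exact absurd (Subgroup.index_eq_one.1 (by simpa using hj)) hne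
    · exact h
  refine Burnside.class_card_ne_prime_pow (g := z) hp hjpos ?_
  rw [← hj]
  refine Nat.eq_of_mul_eq_mul_right (Nat.card_pos (α := Subgroup.centralizer ({z} : Set G))) ?_
  rw [Involution.card_isConj_mul_card_centralizer, mul_comm, Subgroup.card_mul_index]

end CoprimeCtx

end Cfsg.Agent.Lib.Factorized
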