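import Cfsg.Agent.Lib.Factorized.CoprimeTI

/-!
The element count which rules out a minimal counterexample to Wielandt's theorem on products of
two nilpotent groups of coprime orders.
-/

set_option autoImplicit false

open Pointwise

namespace Cfsg.Agent.Lib.Factorized

universe u

variable {G : Type u} [Group G]

/-- A subgroup `M` containing the trivial intersection set `S` of `T`: counting conjugates. -/
theorem conj_pair_injective {M : Subgroup G} {S : Set G}
    (h : ∀ g : G, ∀ s ∈ S, g * s * g⁻¹ ∈ S → g ∈ M) :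
    Function.Injective (fun p : (G ⧸ M) × S => p.1.out * (p.2 : G) * (p.1.out)⁻¹) := by
  rintro ⟨x, ⟨s, hs⟩⟩ ⟨y, ⟨t, ht⟩⟩ he
  simp only at he
  have hm : x.out⁻¹ * y.out ∈ M := by
    refine h _ t ht ?_
    have : x.out⁻¹ * y.out * t * (x.out⁻¹ * y.out)⁻¹ = s := by
      calc x.out⁻¹ * y.out * t * (x.out⁻¹ * y.out)⁻¹
          = x.out⁻¹ * (y.out * t * y.out⁻¹) * x.out := by group
        _ = x.out⁻¹ * (x.out * s * x.out⁻¹) * x.out := by rw [he]
        _ = s := by group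
    rw [this]
    exact hs
  have hxy : x = y := by
    rw [← QuotientGroup.out_eq' x, ← QuotientGroup.out_eq' y]
    exact QuotientGroup.eq.2 hm
  subst hxy
  have : s = t := mul_left_cancel (mul_right_cancel he)
  subst this
  rfl

namespace CoprimeCtx

variable {A B : Subgroup G} (c : CoprimeCtx A B)

include c

/-- There is no minimal counterexample. -/
theorem false_of_ctx : False := by
  classical
  have := c.finite
  set M := Subgroup.normalizer (A : Set G) with hM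
  set K := Subgroup.normalizer (B : Set G) with hK
  set C := B ⊓ M with hC
  set D := A ⊓ K with hD
  set X := M ⊓ K with hX
  have hAM : A ≤ M := Subgroup.le_normalizer
  have hBK : B ≤ K := Subgroup.le_normalizer
  -- orders of `M`, `K` and `X`
  have hcard : ∀ (L P Q : Subgroup G), P ≤ A → Q ≤ B → P ≤ L → Q ≤ L →
      (∀ g ∈ L, ∃ a ∈ P, ∃ b ∈ Q, g = a * b) → Nat.card L = Nat.card P * Nat.card Q := by
    intro L P Q hP hQ hPL hQL hf
    have hf' : IsFactorization (P.subgroupOf L) (Q.subgroupOf L) := by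
      intro g
      obtain ⟨a, ha, b, hb, hab⟩ := hf g g.2
      exact ⟨⟨a, hPL ha⟩, ha, ⟨b, hQL hb⟩, hb, Subtype.ext hab⟩
    have h1 := hf'.card_mul_card
    have h2 : P.subgroupOf L ⊓ Q.subgroupOf L = ⊥ := (Subgroup.eq_bot_iff_forall _).2 fun x hx => by
      have h3 : (x : G) ∈ A ⊓ B := ⟨hP hx.1, hQ hx.2⟩
      rw [c.inf_eq_bot, Subgroup.mem_bot] at h3
      exact Subtype.ext h3
    rw [h2, Subgroup.card_bot, mul_one, Nat.card_congr (Subgroup.subgroupOfEquivOfLe hPL).toEquiv,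
      Nat.card_congr (Subgroup.subgroupOfEquivOfLe hQL).toEquiv] at h1
    exact h1.symm
  have hMc : Nat.card M = Nat.card A * Nat.card C := hcard M A C le_rfl inf_le_left hAM inf_le_right
    fun g hg => c.fac.of_le_left hAM g hg
  have hKc : Nat.card K = Nat.card D * Nat.card B := hcard K D B inf_le_left le_rfl inf_le_right hBK
    fun g hg => by
      obtain ⟨b, hb, a, ha, hab⟩ := c.fac.symm.of_le_left hBK g⁻¹ (K.inv_mem hg)
      exact ⟨a⁻¹, inv_mem ha, b⁻¹, B.inv_mem hb, by rw [← mul_inv_rev, ← hab, inv_inv]⟩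
  have hXc : Nat.card X = Nat.card D * Nat.card C := by
    refine hcard X D C inf_le_left inf_le_left ?_ ?_ fun g hg => ?_
    · exact le_inf (inf_le_left.trans hAM) inf_le_right
    · exact le_inf inf_le_right (inf_le_left.trans hBK)
    · obtain ⟨a, ha, b, hb, rfl⟩ := c.fac g
      refine ⟨a, ⟨ha, ?_⟩, b, ⟨hb, ?_⟩, rfl⟩
      · simpa using K.mul_mem hg.2 (K.inv_mem (hBK hb))
      · simpa using M.mul_mem (M.inv_mem (hAM ha)) hg.1
  -- elements of `D` and `C` commute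
  have hDC : ∀ d ∈ D, ∀ e ∈ C, Commute d e := by
    intro d hd e he
    have h1 : d * e * d⁻¹ * e⁻¹ ∈ A ⊓ B := by
      refine ⟨?_, B.mul_mem ((Subgroup.mem_normalizer_iff.1 hd.2 e).1 he.1) (B.inv_mem he.1)⟩
      rw [show d * e * d⁻¹ * e⁻¹ = d * (e * d⁻¹ * e⁻¹) by group]
      exact A.mul_mem hd.1 ((Subgroup.mem_normalizer_iff.1 he.2 d⁻¹).1 (A.inv_mem hd.1))
    rw [c.inf_eq_bot, Subgroup.mem_bot, mul_inv_eq_one, mul_inv_eq_iff_eq_mul] at h1
    exact h1
  set SA : Set G := (A : Set G) \ {1}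
  set SB : Set G := (B : Set G) \ {1}
  set SX : Set G := {x | ∃ d ∈ D, d ≠ 1 ∧ ∃ e ∈ C, e ≠ 1 ∧ x = d * e}
  have hnA : ∀ a ∈ A, a ^ Nat.card A = 1 := fun a ha =>
    congrArg Subtype.val (pow_card_eq_one' (x := (⟨a, ha⟩ : A)))
  have hnB : ∀ b ∈ B, b ^ Nat.card B = 1 := fun b hb =>
    congrArg Subtype.val (pow_card_eq_one' (x := (⟨b, hb⟩ : B)))
  have hinter : ∀ g : G, g ^ Nat.card A = 1 → g ^ Nat.card B = 1 → g = 1 := fun g h1 h2 => by
    rw [← orderOf_eq_one_iff]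
    exact Nat.eq_one_of_dvd_coprimes c.cop (orderOf_dvd_of_pow_eq_one h1)
      (orderOf_dvd_of_pow_eq_one h2)
  have hTIX : ∀ g : G, ∀ s ∈ SX, g * s * g⁻¹ ∈ SX → g ∈ X := by
    rintro g _ ⟨d, hd, hd1, e, he, he1, rfl⟩ ⟨d', hd', hd'1, e', he', he'1, heq⟩
    have h1 : ∀ n : ℕ, g * (d ^ n * e ^ n) * g⁻¹ = d' ^ n * e' ^ n := fun n => by
      rw [← (hDC d hd e he).mul_pow, ← conj_pow, heq, (hDC d' hd' e' he').mul_pow]
    constructor
    · have h2 := h1 (Nat.card B)
      rw [hnB e he.1, hnB e' he'.1, mul_one, mul_one] at h2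
      refine c.mem_normalizer_of_conj_mem (A.pow_mem hd.1 _) (fun h => hd1 ?_)
        (by rw [h2]; exact A.pow_mem hd'.1 _)
      exact hinter d (hnA d hd.1) h
    · have h2 := h1 (Nat.card A)
      rw [hnA d hd.1, hnA d' hd'.1, one_mul, one_mul] at h2
      refine c.symm.mem_normalizer_of_conj_mem (B.pow_mem he.1 _) (fun h => he1 ?_)
        (by rw [h2]; exact B.pow_mem he'.1 _)
      exact hinter e h (hnB e he.1)
  -- the injection
  let f : ((((G ⧸ M) × SA) ⊕ ((G ⧸ K) × SB)) ⊕ ((G ⧸ X) × SX)) ⊕ Unit → G :=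
    Sum.elim (Sum.elim (Sum.elim (fun p => p.1.out * (p.2 : G) * (p.1.out)⁻¹)
      (fun p => p.1.out * (p.2 : G) * (p.1.out)⁻¹))
      (fun p => p.1.out * (p.2 : G) * (p.1.out)⁻¹)) (fun _ => 1)
  have hA1 : ∀ p : (G ⧸ M) × SA,
      (p.1.out * (p.2 : G) * (p.1.out)⁻¹) ^ Nat.card A = 1 ∧
        p.1.out * (p.2 : G) * (p.1.out)⁻¹ ≠ 1 := fun p =>
    ⟨by rw [conj_pow, hnA _ p.2.2.1]; group, fun h => p.2.2.2 (conj_eq_one_iff.1 h)⟩
  have hB1 : ∀ p : (G ⧸ K) × SB,
      (p.1.out * (p.2 : G) * (p.1.out)⁻¹) ^ Nat.card B = 1 ∧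
        p.1.out * (p.2 : G) * (p.1.out)⁻¹ ≠ 1 := fun p =>
    ⟨by rw [conj_pow, hnB _ p.2.2.1]; group, fun h => p.2.2.2 (conj_eq_one_iff.1 h)⟩
  have hX1 : ∀ p : (G ⧸ X) × SX,
      (p.1.out * (p.2 : G) * (p.1.out)⁻¹) ^ Nat.card A ≠ 1 ∧
        (p.1.out * (p.2 : G) * (p.1.out)⁻¹) ^ Nat.card B ≠ 1 := by
    rintro ⟨x, ⟨_, d, hd, hd1, e, he, he1, rfl⟩⟩
    refine ⟨fun h => he1 ?_, fun h => hd1 ?_⟩
    · rw [conj_pow, conj_eq_one_iff, (hDC d hd e he).mul_pow, hnA d hd.1, one_mul] at h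
      exact hinter e h (hnB e he.1)
    · rw [conj_pow, conj_eq_one_iff, (hDC d hd e he).mul_pow, hnB e he.1, mul_one] at h
      exact hinter d (hnA d hd.1) h
  have hf : Function.Injective f := by
    refine Function.Injective.sumElim (Function.Injective.sumElim (Function.Injective.sumElim
      ?_ ?_ ?_) ?_ ?_) (fun _ _ _ => rfl) ?_
    · exact conj_pair_injective fun g s hs hg => c.mem_normalizer_of_conj_mem hs.1 hs.2 hg.1
    · exact conj_pair_injective fun g s hs hg => c.symm.mem_normalizer_of_conj_mem hs.1 hs.2 hg.1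
    · intro p q h
      exact (hA1 p).2 (hinter _ (hA1 p).1 (by rw [h]; exact (hB1 q).1))
    · exact conj_pair_injective hTIX
    · rintro (p | p) q h
      · exact (hX1 q).1 (by rw [← h]; exact (hA1 p).1)
      · exact (hX1 q).2 (by rw [← h]; exact (hB1 p).1)
    · rintro ((p | p) | p) _ h
      · exact (hA1 p).2 h
      · exact (hB1 p).2 h
      · exact (hX1 p).1 (by
          simp only [Sum.elim_inr] at h
          rw [h, one_pow])
  have hle := Nat.card_le_card_of_injective f hf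
  -- cardinalities
  have hsdiff : ∀ S : Subgroup G, (Nat.card ↥((S : Set G) \ {1}) : ℤ) = (Nat.card S : ℤ) - 1 := by
    intro S
    rw [Nat.card_coe_set_eq, Set.ncard_sdiff_singleton_of_mem (S.one_mem : (1 : G) ∈ (S : Set G)),
      ← Nat.card_coe_set_eq]
    have : 1 ≤ Nat.card S := Nat.card_pos
    push_cast [this]
    rfl
  have hSX : Nat.card SX = Nat.card ↥((D : Set G) \ {1}) * Nat.card ↥((C : Set G) \ {1}) := by
    rw [← Nat.card_prod]
    refine (Nat.card_congr (Equiv.ofBijective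
      (fun p : ↥((D : Set G) \ {1}) × ↥((C : Set G) \ {1}) =>
        (⟨(p.1 : G) * p.2, p.1, p.1.2.1, p.1.2.2, p.2, p.2.2.1, p.2.2.2, rfl⟩ : SX)) ⟨?_, ?_⟩)).symm
    · rintro ⟨⟨d, hd⟩, ⟨e, he⟩⟩ ⟨⟨d', hd'⟩, ⟨e', he'⟩⟩ h
      have h' : d * e = d' * e' := congrArg Subtype.val h
      have h2 : d'⁻¹ * d ∈ A ⊓ B := by
        refine ⟨A.mul_mem (A.inv_mem hd'.1.1) hd.1.1, ?_⟩
        rw [show d'⁻¹ * d = e' * e⁻¹ by
          rw [eq_mul_inv_iff_mul_eq, mul_assoc, h', inv_mul_cancel_left]]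
        exact B.mul_mem he'.1.1 (B.inv_mem he.1.1)
      rw [c.inf_eq_bot, Subgroup.mem_bot, inv_mul_eq_one] at h2
      subst h2
      simp only [mul_right_inj] at h'
      subst h'
      rfl
    · rintro ⟨_, d, hd, hd1, e, he, he1, rfl⟩
      exact ⟨(⟨d, hd, hd1⟩, ⟨e, he, he1⟩), rfl⟩
  have hidx : ∀ L : Subgroup G, Nat.card (G ⧸ L) = L.index := fun L => L.index_eq_card.symm
  simp only [Nat.card_sum, Nat.card_prod, Nat.card_unique, hidx, hSX] at hle
  have hle' : (Nat.card G : ℤ) ≥ M.index * ((Nat.card A : ℤ) - 1) + K.index * ((Nat.card B : ℤ) - 1)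
      + X.index * (((Nat.card D : ℤ) - 1) * ((Nat.card C : ℤ) - 1)) + 1 := by
    rw [← hsdiff A, ← hsdiff B, ← hsdiff D, ← hsdiff C]
    exact_mod_cast hle
  have hGAB := c.card_mul
  have hb : M.index * Nat.card C = Nat.card B := by
    refine Nat.eq_of_mul_eq_mul_left (Nat.card_pos (α := A)) ?_
    rw [hGAB, ← M.card_mul_index, hMc]; ring
  have ha : K.index * Nat.card D = Nat.card A := by
    refine Nat.eq_of_mul_eq_mul_right (Nat.card_pos (α := B)) ?_
    rw [hGAB, ← K.card_mul_index, hKc]; ring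
  have hx : X.index = M.index * K.index := by
    refine Nat.eq_of_mul_eq_mul_left (Nat.card_pos (α := X)) ?_
    rw [X.card_mul_index, ← hGAB, ← ha, ← hb, hXc]; ring
  have hM2 : 1 < M.index := by
    have h0 : M.index ≠ 0 := Subgroup.index_ne_zero_of_finite
    have h1 : M.index ≠ 1 := fun h => c.normalizer_ne_top c.A_ne_bot c.A_ne_top (Subgroup.index_eq_one.1 h)
    omega
  have hK2 : 1 < K.index := by
    have h0 : K.index ≠ 0 := Subgroup.index_ne_zero_of_finite
    have h1 : K.index ≠ 1 := fun h =>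
      c.normalizer_ne_top c.symm.A_ne_bot c.symm.A_ne_top (Subgroup.index_eq_one.1 h)
    omega
  rw [← hGAB, ← ha, ← hb, hx] at hle'
  push_cast at hle'
  have e2 : (1 : ℤ) ≤ (M.index : ℤ) - 1 := by
    have : (2 : ℤ) ≤ (M.index : ℤ) := by exact_mod_cast hM2
    linarith
  have e3 : (1 : ℤ) ≤ (K.index : ℤ) - 1 := by
    have : (2 : ℤ) ≤ (K.index : ℤ) := by exact_mod_cast hK2
    linarith
  nlinarith [mul_le_mul e2 e3 zero_le_one (by linarith : (0 : ℤ) ≤ (M.index : ℤ) - 1)]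

end CoprimeCtx

end Cfsg.Agent.Lib.Factorized
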