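import Cfsg.Agent.Lib.Factorized.Basic
import Cfsg.Agent.Lib.Hall.Solvable

/-!
Permutability of normal Hall subgroups of the factors of a factorized solvable group.
-/

set_option autoImplicit false

open Pointwise

namespace Cfsg.Agent.Lib.Factorized

variable {G : Type*} [Group G] [Finite G]

/-- Two subgroups of coprime index factorize the group. -/
theorem isFactorization_of_coprime_index {H K : Subgroup G} (h : H.index.Coprime K.index) :
    IsFactorization H K := by
  refine isFactorization_of_card_mul ?_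
  have hdvd : H.index * K.index ∣ (H ⊓ K).index :=
    h.mul_dvd_of_dvd_of_dvd (Subgroup.index_dvd_of_le inf_le_left)
      (Subgroup.index_dvd_of_le inf_le_right)
  have hle : H.index * K.index ≤ (H ⊓ K).index :=
    Nat.le_of_dvd (Nat.pos_of_ne_zero Subgroup.index_ne_zero_of_finite) hdvd
  refine Nat.le_of_mul_le_mul_right (c := H.index * K.index) ?_
    (Nat.mul_pos (Nat.pos_of_ne_zero Subgroup.index_ne_zero_of_finite)
      (Nat.pos_of_ne_zero Subgroup.index_ne_zero_of_finite))
  calc Nat.card G * Nat.card ↥(H ⊓ K) * (H.index * K.index)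
      ≤ Nat.card G * (Nat.card ↥(H ⊓ K) * (H ⊓ K).index) := by
        rw [mul_assoc]; exact Nat.mul_le_mul_left _ (Nat.mul_le_mul_left _ hle)
    _ = (Nat.card H * H.index) * (Nat.card K * K.index) := by
        simp only [Subgroup.card_mul_index]
    _ = Nat.card H * Nat.card K * (H.index * K.index) := by ring

theorem isPiHall_of_coprime {A : Subgroup G} (hA : (Nat.card A).Coprime A.index) :
    Cfsg.IsPiHall {p | p ∣ Nat.card A} A :=
  (Lib.Hall.isPiHall_iff A).2 ⟨Lib.Hall.isPiNumber_primes_dvd _,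
    Lib.Hall.isPiNumber_primes_dvd_compl hA⟩

/-- In a solvable group, a Hall subgroup permutes with a conjugate of any other Hall subgroup. -/
theorem exists_permutable_conj [Group.IsSolvable G] {A B : Subgroup G}
    (hA : (Nat.card A).Coprime A.index) (hB : (Nat.card B).Coprime B.index) :
    ∃ (w : G) (S : Subgroup G),
      (S : Set G) = (A : Set G) * ((MulAut.conj w • B : Subgroup G) : Set G) := by
  set π : Set ℕ := {p | p ∣ Nat.card A}
  set σ : Set ℕ := {p | p ∣ Nat.card B}
  have hAh : Cfsg.IsPiHall π A := isPiHall_of_coprime hA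
  have hBh : Cfsg.IsPiHall σ B := isPiHall_of_coprime hB
  obtain ⟨C, hC, hAC⟩ := Lib.Hall.exists_isPiHall_ge (G := G) (π := π ∪ σ) (U := A)
    ((Lib.Hall.isPiNumber_primes_dvd _).mono Set.subset_union_left)
  obtain ⟨B', hB'⟩ := Lib.Hall.exists_isPiHallOf σ C
  rw [Lib.Hall.isPiHallOf_iff] at hB'
  obtain ⟨hB'C, hB'σ, hB'i⟩ := hB'
  rw [Lib.Hall.isPiHall_iff] at hC
  have hB'h : Cfsg.IsPiHall σ B' := by
    refine (Lib.Hall.isPiHall_iff B').2 ⟨hB'σ, ?_⟩
    rw [← Subgroup.relIndex_mul_index hB'C]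
    exact hB'i.mul (hC.2.mono (Set.compl_subset_compl.2 Set.subset_union_right))
  obtain ⟨w, hw⟩ := Lib.Hall.isPiHall_conjugate hBh hB'h
  refine ⟨w, C, ?_⟩
  rw [hw]
  have hf : IsFactorization (A.subgroupOf C) (B'.subgroupOf C) := by
    refine isFactorization_of_coprime_index (Nat.coprime_of_dvd fun p hp hpA hpB => ?_)
    have h1 : p ∣ A.relIndex C := hpA
    have h2 : p ∣ B'.relIndex C := hpB
    have h3 : p ∈ π ∪ σ := hC.1 p hp (h1.trans (Subgroup.relIndex_dvd_card A C))
    have h4 : p ∉ π := ((Lib.Hall.isPiHall_iff A).1 hAh).2 p hp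
      (h1.trans (Subgroup.relIndex_dvd_index_of_le hAC))
    exact hB'i p hp h2 (h3.resolve_left h4)
  refine Set.Subset.antisymm (fun x hx => ?_) ?_
  · obtain ⟨a, ha, b, hb, hab⟩ := hf ⟨x, hx⟩
    exact ⟨a.1, ha, b.1, hb, (congrArg Subtype.val hab).symm⟩
  · rintro _ ⟨a, ha, b, hb, rfl⟩
    exact C.mul_mem (hAC ha) (hB'C hb)

/-- If `G = HK` is solvable and `A ⊴ H`, `B ⊴ K` are Hall subgroups of `G`, then all conjugates
of `A` and `B` permute. -/
theorem IsFactorization.hall_pair_permutable [Group.IsSolvable G] {H K A B : Subgroup G}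
    (h : IsFactorization H K) (hA : H ≤ Subgroup.normalizer (A : Set G))
    (hB : K ≤ Subgroup.normalizer (B : Set G)) (hAh : (Nat.card A).Coprime A.index)
    (hBh : (Nat.card B).Coprime B.index) (x y : G) :
    ∃ S : Subgroup G,
      (S : Set G) = ((MulAut.conj x • A : Subgroup G) : Set G) *
        ((MulAut.conj y • B : Subgroup G) : Set G) := by
  obtain ⟨w, S, hS⟩ := exists_permutable_conj hAh hBh
  obtain ⟨g, hg1, hg2⟩ := h.exists_conj_pair hA hB 1 w
  rw [map_one, one_smul] at hg1
  obtain ⟨g', hg1', hg2'⟩ := h.exists_conj_pair hA hB x y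
  refine ⟨MulAut.conj (g' * g⁻¹) • S, ?_⟩
  rw [Subgroup.coe_pointwise_smul, hS, ← conj_set_mul, hg2, hg1', hg2']
  conv_lhs => arg 1; rw [hg1]
  rw [← conj_mul_smul, ← conj_mul_smul, inv_mul_cancel_right]

end Cfsg.Agent.Lib.Factorized
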