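import Cfsg.Agent.Lib.Factorized.Basic

/-!
Kegel's lemma: if `A B^x` is a proper subgroup for all `x`, then one of `A`, `B` lies in a proper
normal subgroup.
-/

set_option autoImplicit false

open Pointwise

namespace Cfsg.Agent.Lib.Factorized

variable {G : Type*} [Group G]

/-- If `A` and `A'` both permute with `C`, so does `A ⊔ A'`. -/
theorem exists_coe_eq_sup_mul {A A' C : Subgroup G}
    (h : ∃ S : Subgroup G, (S : Set G) = (A : Set G) * (C : Set G))
    (h' : ∃ S : Subgroup G, (S : Set G) = (A' : Set G) * (C : Set G)) :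
    ∃ S : Subgroup G, (S : Set G) = ((A ⊔ A' : Subgroup G) : Set G) * (C : Set G) := by
  obtain ⟨S, hS⟩ := h
  obtain ⟨S', hS'⟩ := h'
  have hA : ∀ a ∈ (A : Set G) ∪ A', ∀ c ∈ C, ∃ a' ∈ A ⊔ A', ∃ c' ∈ C, c * a = a' * c' := by
    intro a ha c hc
    rcases ha with ha | ha
    · have h1 : c * a ∈ S := S.mul_mem
        (show c ∈ (S : Set G) by rw [hS]; exact ⟨1, A.one_mem, c, hc, one_mul c⟩)
        (show a ∈ (S : Set G) by rw [hS]; exact ⟨a, ha, 1, C.one_mem, mul_one a⟩)
      obtain ⟨a', ha', c', hc', he⟩ : c * a ∈ (A : Set G) * (C : Set G) := hS ▸ h1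
      exact ⟨a', (le_sup_left : A ≤ A ⊔ A') ha', c', hc', he.symm⟩
    · have h1 : c * a ∈ S' := S'.mul_mem
        (show c ∈ (S' : Set G) by rw [hS']; exact ⟨1, A'.one_mem, c, hc, one_mul c⟩)
        (show a ∈ (S' : Set G) by rw [hS']; exact ⟨a, ha, 1, C.one_mem, mul_one a⟩)
      obtain ⟨a', ha', c', hc', he⟩ : c * a ∈ (A' : Set G) * (C : Set G) := hS' ▸ h1
      exact ⟨a', (le_sup_right : A' ≤ A ⊔ A') ha', c', hc', he.symm⟩
  have hall : ∀ a ∈ A ⊔ A', ∀ c ∈ C, ∃ a' ∈ A ⊔ A', ∃ c' ∈ C, c * a = a' * c' := by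
    intro a ha
    rw [Subgroup.sup_eq_closure] at ha
    induction ha using Subgroup.closure_induction'' with
    | one => intro c hc; exact ⟨1, one_mem _, c, hc, by simp⟩
    | mem x hx => exact hA x hx
    | inv_mem x hx =>
        refine hA x⁻¹ ?_
        rcases hx with hx | hx
        · exact Or.inl (A.inv_mem hx)
        · exact Or.inr (A'.inv_mem hx)
    | mul x y _ _ ihx ihy =>
        intro c hc
        obtain ⟨a1, ha1, c1, hc1, h1⟩ := ihx c hc
        obtain ⟨a2, ha2, c2, hc2, h2⟩ := ihy c1 hc1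
        refine ⟨a1 * a2, mul_mem ha1 ha2, c2, hc2, ?_⟩
        rw [← mul_assoc, h1, mul_assoc, h2, mul_assoc]
  refine ⟨{ carrier := ((A ⊔ A' : Subgroup G) : Set G) * (C : Set G)
            one_mem' := ⟨1, one_mem _, 1, one_mem _, one_mul 1⟩
            mul_mem' := ?_
            inv_mem' := ?_ }, rfl⟩
  · rintro _ _ ⟨a, ha, c, hc, rfl⟩ ⟨b, hb, d, hd, rfl⟩
    obtain ⟨b', hb', c', hc', he⟩ := hall b hb c hc
    refine ⟨a * b', mul_mem ha hb', c' * d, mul_mem hc' hd, ?_⟩
    dsimp only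
    rw [mul_assoc, ← mul_assoc b', ← he]
    group
  · rintro _ ⟨a, ha, c, hc, rfl⟩
    obtain ⟨a', ha', c', hc', he⟩ := hall a⁻¹ (inv_mem ha) c⁻¹ (inv_mem hc)
    exact ⟨a', ha', c', hc', by dsimp only; rw [← he, mul_inv_rev]⟩

theorem kegel_lemma [Finite G] (A B : Subgroup G)
    (h : ∀ x : G, ∃ S : Subgroup G, S ≠ ⊤ ∧
      (S : Set G) = (A : Set G) * ((MulAut.conj x • B : Subgroup G) : Set G)) :
    ∃ N : Subgroup G, N.Normal ∧ N ≠ ⊤ ∧ (A ≤ N ∨ B ≤ N) := by
  by_contra hcon
  push Not at hcon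
  suffices ∀ n : ℕ, ∀ A' : Subgroup G, A ≤ A' → Nat.card G ≤ Nat.card A' + n →
      ¬ ∀ x : G, ∃ S : Subgroup G, S ≠ ⊤ ∧
        (S : Set G) = (A' : Set G) * ((MulAut.conj x • B : Subgroup G) : Set G) from
    this (Nat.card G) A le_rfl (Nat.le_add_left _ _) h
  intro n
  induction n using Nat.strong_induction_on with
  | _ n ih =>
    intro A' hAA' hn hP
    have hA'top : A' ≠ ⊤ := by
      obtain ⟨S, hS, hSe⟩ := hP 1
      rintro rfl
      refine hS (eq_top_iff.2 fun g _ => ?_)
      change g ∈ (S : Set G)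
      rw [hSe]
      exact ⟨g, Subgroup.mem_top g, 1, one_mem _, mul_one g⟩
    have hA'n : ¬ A'.Normal := fun hN => (hcon A' hN hA'top).1 hAA'
    obtain ⟨x, hx⟩ : ∃ x : G, ¬ (MulAut.conj x • B ≤ Subgroup.normalizer (A' : Set G)) := by
      by_contra hall
      push Not at hall
      apply hA'n
      rw [← Subgroup.normalizer_eq_top_iff]
      by_contra hne
      refine (hcon _ (Subgroup.normalCore_normal _) (fun hc => hne (eq_top_iff.2
        (hc ▸ Subgroup.normalCore_le _)))).2 ?_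
      intro b hb g
      refine hall g ?_
      rw [mem_conj_smul_iff]
      convert hb using 1
      group
    obtain ⟨y, hy, hyN⟩ := SetLike.not_le_iff_exists.1 hx
    set A1 := A' ⊔ MulAut.conj y • A' with hA1
    have hne : A' ≠ A1 := by
      intro he
      apply hyN
      have hle : MulAut.conj y • A' ≤ A' := le_sup_right.trans (le_of_eq he.symm)
      have heq : MulAut.conj y • A' = A' := Subgroup.eq_of_le_of_card_ge hle
        (le_of_eq (Nat.card_congr (Subgroup.equivSMul (MulAut.conj y) A').toEquiv))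
      rw [Subgroup.mem_normalizer_iff]
      intro z
      conv_rhs => rw [← heq, mem_conj_smul_iff]
      group
    have hcard : Nat.card A' < Nat.card A1 := by
      by_contra hle
      exact hne (Subgroup.eq_of_le_of_card_ge le_sup_left (not_lt.1 hle))
    have hmle : Nat.card A1 ≤ Nat.card G := Subgroup.card_le_card_group A1
    refine ih (Nat.card G - Nat.card A1) (by omega) A1 (hAA'.trans le_sup_left) (by omega) ?_
    intro z
    have h1 : ∃ S : Subgroup G, (S : Set G) =
        (A' : Set G) * ((MulAut.conj z • B : Subgroup G) : Set G) :=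
      (hP z).imp fun _ hs => hs.2
    have h2 : ∃ S : Subgroup G, (S : Set G) =
        ((MulAut.conj y • A' : Subgroup G) : Set G) *
          ((MulAut.conj z • B : Subgroup G) : Set G) := by
      obtain ⟨S, _, hS⟩ := hP (y⁻¹ * z)
      refine ⟨MulAut.conj y • S, ?_⟩
      rw [Subgroup.coe_pointwise_smul, hS, ← conj_set_mul, ← conj_mul_smul, mul_inv_cancel_left]
    obtain ⟨S, hS⟩ := exists_coe_eq_sup_mul h1 h2
    refine ⟨S, ?_, hS⟩
    rintro rfl
    -- then `G = A1 B^x`, which lies in the proper subgroup `A' B^x`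
    have hfac : IsFactorization A1 (MulAut.conj z • B) := by
      intro g
      obtain ⟨a, ha, b, hb, hab⟩ :
          g ∈ (A1 : Set G) * ((MulAut.conj z • B : Subgroup G) : Set G) := hS ▸ Subgroup.mem_top g
      exact ⟨a, ha, b, hb, hab.symm⟩
    have hfac' := hfac.conj_pair 1 (x * z⁻¹)
    rw [map_one, one_smul, ← conj_mul_smul, inv_mul_cancel_right] at hfac'
    obtain ⟨T, hT, hTe⟩ := hP x
    have hA'T : A' ≤ T := fun a ha => show a ∈ (T : Set G) by
      rw [hTe]; exact ⟨a, ha, 1, one_mem _, mul_one a⟩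
    have hBT : MulAut.conj x • B ≤ T := fun a ha => show a ∈ (T : Set G) by
      rw [hTe]; exact ⟨1, one_mem _, a, ha, one_mul a⟩
    have hA1T : A1 ≤ T := sup_le hA'T fun a ha => by
      rw [mem_conj_smul_iff] at ha
      have := T.mul_mem (T.mul_mem (hBT hy) (hA'T ha)) (T.inv_mem (hBT hy))
      convert this using 1
      group
    refine hT (eq_top_iff.2 fun g _ => ?_)
    obtain ⟨a, ha, b, hb, rfl⟩ := hfac' g
    exact T.mul_mem (hA1T ha) (hBT hb)

end Cfsg.Agent.Lib.Factorized
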