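import Cfsg.Agent.Lib.Factorized.CoprimeBasic
import Cfsg.Agent.Lib.Factorized.Kegel
import Cfsg.Agent.Lib.Factorized.HallPair

/-!
In a minimal counterexample `G = AB` to Wielandt's theorem, nontrivial subgroups normalized by
`A` and `B` respectively, inside `A` and `B`, always generate `G`.
-/

set_option autoImplicit false

open Pointwise

namespace Cfsg.Agent.Lib.Factorized

universe u

variable {G : Type u} [Group G]

/-- Nontrivial subgroups `A1 ≤ A`, `B1 ≤ B`, normalized by `A`, `B`, generating a proper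
subgroup. -/
structure IsPair (A B A1 B1 : Subgroup G) : Prop where
  leA : A1 ≤ A
  normA : A ≤ Subgroup.normalizer (A1 : Set G)
  neA : A1 ≠ ⊥
  leB : B1 ≤ B
  normB : B ≤ Subgroup.normalizer (B1 : Set G)
  neB : B1 ≠ ⊥
  proper : A1 ⊔ B1 ≠ ⊤

/-- A pair with no larger pair above it. -/
def IsMaxPair (A B A1 B1 : Subgroup G) : Prop :=
  IsPair A B A1 B1 ∧
    ∀ A2 B2 : Subgroup G, A1 ≤ A2 → B1 ≤ B2 → IsPair A B A2 B2 → A2 ≤ A1 ∧ B2 ≤ B1

theorem IsPair.symm {A B A1 B1 : Subgroup G} (h : IsPair A B A1 B1) : IsPair B A B1 A1 where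
  leA := h.leB
  normA := h.normB
  neA := h.neB
  leB := h.leA
  normB := h.normA
  neB := h.neA
  proper := by rw [sup_comm]; exact h.proper

theorem IsMaxPair.symm {A B A1 B1 : Subgroup G} (h : IsMaxPair A B A1 B1) : IsMaxPair B A B1 A1 :=
  ⟨h.1.symm, fun B2 A2 hB hA hp => (h.2 A2 B2 hA hB hp.symm).symm⟩

namespace CoprimeCtx

variable {A B A1 B1 : Subgroup G} (c : CoprimeCtx A B)

include c

theorem pair_normalizer_ne_top (h : IsPair A B A1 B1) :
    Subgroup.normalizer ((A1 ⊔ B1 : Subgroup G) : Set G) ≠ ⊤ :=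
  c.normalizer_ne_top (fun he => h.neA (le_bot_iff.1 (he ▸ le_sup_left))) h.proper

theorem pair_fac (h : IsPair A B A1 B1) :
    ∀ g ∈ Subgroup.normalizer ((A1 ⊔ B1 : Subgroup G) : Set G),
      ∃ a ∈ A ⊓ Subgroup.normalizer ((A1 ⊔ B1 : Subgroup G) : Set G),
      ∃ b ∈ B ⊓ Subgroup.normalizer ((A1 ⊔ B1 : Subgroup G) : Set G), g = a * b := by
  have := c.finite
  intro g hg
  obtain ⟨a, ha, b, hb, hab⟩ := c.fac.normalizer_sup h.normA h.normB g hg
  exact ⟨a, ⟨ha.2, ha.1⟩, b, ⟨hb.2, hb.1⟩, hab⟩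

/-- The whole of `A` does not occur in a pair. -/
theorem not_le_pair (h : IsPair A B A1 B1) : ¬ A ≤ A1 := by
  intro hle
  have hB : B1 ≠ ⊥ := h.neB
  have hsub : Subgroup.normalClosure (B1 : Set G) ≤ A1 ⊔ B1 := by
    rw [Subgroup.normalClosure, Subgroup.closure_le]
    intro x hx
    rw [Group.mem_conjugatesOfSet_iff] at hx
    obtain ⟨b, hb, hbx⟩ := hx
    obtain ⟨g, rfl⟩ := isConj_iff.1 hbx
    obtain ⟨a, ha, b', hb', rfl⟩ := c.fac g
    have h1 : b' * b * b'⁻¹ ∈ B1 := (Subgroup.mem_normalizer_iff.1 (h.normB hb') b).1 hb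
    have h2 : a * b' * b * (a * b')⁻¹ = a * (b' * b * b'⁻¹) * a⁻¹ := by group
    rw [SetLike.mem_coe, h2]
    exact mul_mem (mul_mem (Subgroup.mem_sup_left (hle ha)) (Subgroup.mem_sup_right h1))
      (inv_mem (Subgroup.mem_sup_left (hle ha)))
  rcases c.eq_bot_or_top (Subgroup.normalClosure (B1 : Set G)) with he | he
  · exact hB (le_bot_iff.1 (he ▸ Subgroup.le_normalClosure))
  · exact h.proper (top_le_iff.1 (he ▸ hsub))

/-- A nontrivial normal `r`-subgroup of the normalizer of a maximal pair, `r ∣ |A|`, forces the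
other Sylow subgroups of `A` into the pair. -/
theorem ppart_le_of_pCore (h : IsMaxPair A B A1 B1) {r : ℕ} (hr : r.Prime) (hrA : r ∣ Nat.card A)
    (hne : Cfsg.pCore r ↥(Subgroup.normalizer ((A1 ⊔ B1 : Subgroup G) : Set G)) ≠ ⊥)
    {p : ℕ} (hp : p.Prime) (hpA : p ∣ Nat.card A) (hpr : p ≠ r) : ppart A p ≤ A1 := by
  have := c.finite
  haveI := Fact.mk hr
  haveI := Fact.mk hp
  set L := Subgroup.normalizer ((A1 ⊔ B1 : Subgroup G) : Set G) with hLdef
  haveI := PSolvable.pCore_characteristic (p := r) (G := ↥L)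
  have hRA : Cfsg.pCore r ↥L ≤ A.subgroupOf L := by
    refine c.normal_le (c.pair_fac h.1) _ fun q hq hqd => ?_
    obtain ⟨n, hn⟩ := IsPGroup.iff_card.1 (PSolvable.pCore_isPGroup (p := r) (G := ↥L))
    rw [hn] at hqd
    exact (Nat.prime_dvd_prime_iff_eq hq hr).1 (hq.dvd_of_dvd_pow hqd) ▸ hrA
  set R := (Cfsg.pCore r ↥L).map L.subtype with hR
  have hRA' : R ≤ A := by
    rintro _ ⟨x, hx, rfl⟩
    exact hRA hx
  have hLR : L ≤ Subgroup.normalizer (R : Set G) := by
    refine (Subgroup.normal_subgroupOf_iff_le_normalizer (Subgroup.map_subtype_le _)).1 ?_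
    rw [Subgroup.subgroupOf, Subgroup.comap_map_eq_self_of_injective L.subtype_injective]
    infer_instance
  have hRne : R ≠ ⊥ := fun he =>
    hne ((Subgroup.map_eq_bot_iff_of_injective _ L.subtype_injective).1 he)
  have hRtop : R ≠ ⊤ := fun he => c.A_ne_top (top_le_iff.1 (he ▸ hRA'))
  have hRr : R ≤ ppart A r := le_ppart c.nilA hRA' ((PSolvable.pCore_isPGroup).map L.subtype)
  have hpR : ppart A p ≤ Subgroup.normalizer (R : Set G) := by
    refine le_trans ?_ (Subgroup.centralizer_le_normalizer _)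
    intro x hx
    exact Subgroup.mem_centralizer_iff.2 fun y hy => commute_ppart c.nilA hpr.symm (hRr hy) hx
  have hpair : IsPair A B (A1 ⊔ ppart A p) B1 :=
    { leA := sup_le h.1.leA ppart_le
      normA := (le_inf h.1.normA le_normalizer_ppart).trans
        (Subgroup.normalizer_inf_normalizer_le_normalizer_sup _ _)
      neA := fun he => h.1.neA (le_bot_iff.1 (he ▸ le_sup_left))
      leB := h.1.leB
      normB := h.1.normB
      neB := h.1.neB
      proper := fun he => c.normalizer_ne_top hRne hRtop (top_le_iff.1 (he ▸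
        sup_le (sup_le ((le_sup_left.trans Subgroup.le_normalizer).trans hLR) hpR)
          ((le_sup_right.trans Subgroup.le_normalizer).trans hLR))) }
  exact le_sup_right.trans (h.2 _ B1 le_sup_left le_rfl hpair).1

/-- There is at most one prime dividing `|A|` with a nontrivial core in the normalizer. -/
theorem pCore_prime_unique (h : IsMaxPair A B A1 B1) {r t : ℕ} (hr : r.Prime) (ht : t.Prime)
    (hrA : r ∣ Nat.card A) (htA : t ∣ Nat.card A)
    (hr1 : Cfsg.pCore r ↥(Subgroup.normalizer ((A1 ⊔ B1 : Subgroup G) : Set G)) ≠ ⊥)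
    (ht1 : Cfsg.pCore t ↥(Subgroup.normalizer ((A1 ⊔ B1 : Subgroup G) : Set G)) ≠ ⊥) : r = t := by
  have := c.finite
  by_contra hne
  refine c.not_le_pair h.1 (le_of_forall_ppart_le c.nilA fun p hp hpA => ?_)
  by_cases hpr : p = r
  · subst hpr
    exact c.ppart_le_of_pCore h ht htA ht1 hp hpA hne
  · exact c.ppart_le_of_pCore h hr hrA hr1 hp hpA hpr

/-- Sylow subgroups of `A` and `B` do not both lie in the normalizer of a pair. -/
theorem not_sylow_pair (h : IsPair A B A1 B1) {p q : ℕ} (hp : p.Prime) (hpA : p ∣ Nat.card A)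
    (hq : q.Prime) (hqB : q ∣ Nat.card B) :
    ¬ (ppart A p ≤ A1 ∧ ppart B q ≤ B1) := by
  rintro ⟨hpL, hqL⟩
  have := c.finite
  haveI := Fact.mk hp
  haveI := Fact.mk hq
  set L := Subgroup.normalizer ((A1 ⊔ B1 : Subgroup G) : Set G)
  have hAL : ppart A p ≤ L := hpL.trans (le_sup_left.trans Subgroup.le_normalizer)
  have hBL : ppart B q ≤ L := hqL.trans (le_sup_right.trans Subgroup.le_normalizer)
  haveI : Group.IsSolvable L := c.ih L (c.pair_normalizer_ne_top h) (c.pair_fac h)
  have hhall : ∀ (X Y : Subgroup G) (t : ℕ) [Fact t.Prime], CoprimeCtx X Y → t ∣ Nat.card X →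
      ppart X t ≤ L →
      (Nat.card ((ppart X t).subgroupOf L)).Coprime ((ppart X t).subgroupOf L).index := by
    intro X Y t ht cX htX hle
    rw [Nat.card_congr (Subgroup.subgroupOfEquivOfLe hle).toEquiv, card_ppart cX.nilA]
    refine Nat.Coprime.pow_left _ (ht.out.coprime_iff_not_dvd.2 fun hd => ?_)
    have h1 : t ∣ (ppart X t).index :=
      (show t ∣ (ppart X t).relIndex L from hd).trans (Subgroup.relIndex_dvd_index_of_le hle)
    have h2 := (ppart X t).card_mul_index
    rw [card_ppart cX.nilA] at h2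
    have h3 : t ^ ((Nat.card X).factorization t + 1) ∣ Nat.card G := by
      rw [← h2, pow_succ]
      exact mul_dvd_mul_left _ h1
    have h4 : (Nat.card G).factorization t = (Nat.card X).factorization t := by
      rw [← cX.card_mul, Nat.factorization_mul Nat.card_pos.ne' Nat.card_pos.ne', Finsupp.add_apply,
        Nat.factorization_eq_zero_of_not_dvd (cX.not_dvd_card ht.out htX), add_zero]
    have h5 := (ht.out.pow_dvd_iff_le_factorization Nat.card_pos.ne').1 h3
    omega
  obtain ⟨w, S, hS⟩ := exists_permutable_conj (hhall A B p c hpA hAL) (hhall B A q c.symm hqB hBL)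
  set S' := S.map L.subtype with hS'
  have hset : (S' : Set G) = (ppart A p : Set G) *
      ((MulAut.conj (w : G) • ppart B q : Subgroup G) : Set G) := by
    ext x
    constructor
    · rintro ⟨s, hs, rfl⟩
      obtain ⟨a, ha, b, hb, rfl⟩ := hS ▸ hs
      refine ⟨(a : G), ha, (b : G), ?_, rfl⟩
      have hb' := mem_conj_smul_iff.1 hb
      exact mem_conj_smul_iff.2 hb'
    · rintro ⟨a, ha, b, hb, rfl⟩
      have hbL : b ∈ L := by
        have hb' := hBL (mem_conj_smul_iff.1 hb)
        have h2 := L.mul_mem (L.mul_mem w.2 hb') (L.inv_mem w.2)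
        convert h2 using 1
        group
      refine ⟨⟨a, hAL ha⟩ * ⟨b, hbL⟩, ?_, rfl⟩
      rw [SetLike.mem_coe, ← SetLike.mem_coe, hS]
      have hb2 : (w : G)⁻¹ * b * (w : G) ∈ ppart B q := mem_conj_smul_iff.1 hb
      exact ⟨⟨a, hAL ha⟩, ha, ⟨b, hbL⟩, mem_conj_smul_iff.2 hb2, rfl⟩
  have hS'top : S' ≠ ⊤ := fun he =>
    c.pair_normalizer_ne_top h (top_le_iff.1 (he ▸ Subgroup.map_subtype_le S))
  have hkey : ∀ x : G, ∃ T : Subgroup G, T ≠ ⊤ ∧
      (T : Set G) = (ppart A p : Set G) * ((MulAut.conj x • ppart B q : Subgroup G) : Set G) := by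
    intro x
    obtain ⟨g, hg1, hg2⟩ := c.fac.exists_conj_pair (le_normalizer_ppart (p := p))
      (le_normalizer_ppart (p := q)) 1 (w : G)
    obtain ⟨g', hg1', hg2'⟩ := c.fac.exists_conj_pair (le_normalizer_ppart (p := p))
      (le_normalizer_ppart (p := q)) 1 x
    rw [map_one, one_smul] at hg1 hg1'
    refine ⟨MulAut.conj (g' * g⁻¹) • S', fun he => hS'top ?_, ?_⟩
    · rw [eq_top_iff]
      intro y _
      have h1 : (g' * g⁻¹) * y * (g' * g⁻¹)⁻¹ ∈ MulAut.conj (g' * g⁻¹) • S' := by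
        rw [he]; trivial
      rw [mem_conj_smul_iff] at h1
      convert h1 using 1
      group
    · rw [Subgroup.coe_pointwise_smul, hset, ← conj_set_mul, hg2, hg2', ← conj_mul_smul,
        inv_mul_cancel_right]
      conv_lhs => arg 1; rw [hg1]
      rw [← conj_mul_smul, inv_mul_cancel_right, ← hg1']
  obtain ⟨N, hN, hNtop, hN'⟩ := kegel_lemma _ _ hkey
  haveI := hN
  have hNb : N = ⊥ := (c.eq_bot_or_top N).resolve_right hNtop
  rcases hN' with hle | hle
  · exact ppart_ne_bot c.nilA hpA (le_bot_iff.1 (hNb ▸ hle))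
  · exact ppart_ne_bot c.nilB hqB (le_bot_iff.1 (hNb ▸ hle))

/-- No prime dividing `|A|` has a nontrivial core in the normalizer of a maximal pair. -/
theorem pCore_A_eq_bot (h : IsMaxPair A B A1 B1) {r : ℕ} (hr : r.Prime) (hrA : r ∣ Nat.card A) :
    Cfsg.pCore r ↥(Subgroup.normalizer ((A1 ⊔ B1 : Subgroup G) : Set G)) = ⊥ := by
  have := c.finite
  by_contra hne
  set L := Subgroup.normalizer ((A1 ⊔ B1 : Subgroup G) : Set G) with hLdef
  haveI : Group.IsSolvable L := c.ih L (c.pair_normalizer_ne_top h.1) (c.pair_fac h.1)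
  obtain ⟨p, hp, hpA, hpr⟩ := c.exists_other_prime r
  have hp1 := c.ppart_le_of_pCore h hr hrA hne hp hpA hpr
  -- the only nontrivial core is that of `r`
  have honly : ∀ t : ℕ, t.Prime → t ≠ r → Cfsg.pCore t ↥L = ⊥ := by
    intro t ht htr
    by_contra htne
    haveI := Fact.mk ht
    have htL : t ∣ Nat.card G := by
      obtain ⟨n, hn⟩ := IsPGroup.iff_card.1 (PSolvable.pCore_isPGroup (p := t) (G := ↥L))
      have hn0 : n ≠ 0 := by
        rintro rfl
        exact htne (Subgroup.card_eq_one.1 (by simpa using hn))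
      exact (dvd_pow_self t hn0).trans (hn ▸ (Subgroup.card_subgroup_dvd_card _).trans
        (Subgroup.card_subgroup_dvd_card L))
    rcases c.dvd_card_or ht htL with htA | htB
    · exact htr (c.pCore_prime_unique h ht hr htA hrA htne hne)
    · obtain ⟨q, hq, hqB, hqt⟩ := c.symm.exists_other_prime t
      have htne' : Cfsg.pCore t ↥(Subgroup.normalizer ((B1 ⊔ A1 : Subgroup G) : Set G)) ≠ ⊥ := by
        rwa [sup_comm]
      exact c.not_sylow_pair h.1 hp hpA hq hqB
        ⟨hp1, c.symm.ppart_le_of_pCore h.symm ht htB htne' hq hqB hqt⟩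
  haveI := Fact.mk hr
  haveI := Fact.mk hp
  have hF : Cfsg.fittingSubgroup ↥L ≤ Cfsg.pCore r ↥L := by
    rw [Fitting.fittingSubgroup_eq_iSup_pCore]
    refine iSup_le fun t => ?_
    by_cases htr : (t : ℕ) = r
    · rw [htr]
    · rw [honly t t.2 htr]; exact bot_le
  have hpL : ppart A p ≤ L := hp1.trans (le_sup_left.trans Subgroup.le_normalizer)
  have hrA' : Cfsg.pCore r ↥L ≤ A.subgroupOf L := by
    haveI := PSolvable.pCore_characteristic (p := r) (G := ↥L)
    refine c.normal_le (c.pair_fac h.1) _ fun q hq hqd => ?_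
    obtain ⟨n, hn⟩ := IsPGroup.iff_card.1 (PSolvable.pCore_isPGroup (p := r) (G := ↥L))
    rw [hn] at hqd
    exact (Nat.prime_dvd_prime_iff_eq hq hr).1 (hq.dvd_of_dvd_pow hqd) ▸ hrA
  have hle : (ppart A p).subgroupOf L ≤ Cfsg.pCore r ↥L := by
    refine le_trans ?_ ((Fitting.centralizer_fittingSubgroup_le).trans hF)
    intro x hx
    rw [Subgroup.mem_centralizer_iff]
    intro y hy
    refine Subtype.ext ?_
    have hyr : (y : G) ∈ ppart A r :=
      le_ppart c.nilA (by rintro _ ⟨z, hz, rfl⟩; exact hrA' hz)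
        ((PSolvable.pCore_isPGroup (p := r) (G := ↥L)).map L.subtype)
        (Subgroup.mem_map_of_mem L.subtype (hF hy))
    exact commute_ppart c.nilA hpr.symm hyr hx
  refine ppart_ne_bot c.nilA hpA ?_
  have h1 : IsPGroup r ↥(ppart A p) :=
    ((PSolvable.pCore_isPGroup (p := r) (G := ↥L)).to_le hle).of_equiv
      (Subgroup.subgroupOfEquivOfLe hpL)
  exact disjoint_self.1 (IsPGroup.disjoint_of_ne p r hpr _ _ isPGroup_ppart h1)

/-- There is no pair. -/
theorem no_pair (h : IsPair A B A1 B1) : False := by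
  have := c.finite
  obtain ⟨⟨A2, B2⟩, hmax⟩ := (Set.toFinite {P : Subgroup G × Subgroup G | IsPair A B P.1 P.2}).exists_maximal
    ⟨(A1, B1), h⟩
  have hm : IsMaxPair A B A2 B2 := ⟨hmax.1, fun A3 B3 hA hB hp =>
    ⟨(hmax.2 (show (A3, B3) ∈ {P : Subgroup G × Subgroup G | IsPair A B P.1 P.2} from hp) ⟨hA, hB⟩).1,
     (hmax.2 (show (A3, B3) ∈ {P : Subgroup G × Subgroup G | IsPair A B P.1 P.2} from hp) ⟨hA, hB⟩).2⟩⟩
  set L := Subgroup.normalizer ((A2 ⊔ B2 : Subgroup G) : Set G) with hLdef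
  haveI : Group.IsSolvable L := c.ih L (c.pair_normalizer_ne_top hm.1) (c.pair_fac hm.1)
  have hF : Cfsg.fittingSubgroup ↥L = ⊥ := by
    rw [Fitting.fittingSubgroup_eq_iSup_pCore, iSup_eq_bot]
    intro t
    by_contra hne
    haveI := Fact.mk t.2
    have htL : (t : ℕ) ∣ Nat.card G := by
      obtain ⟨n, hn⟩ := IsPGroup.iff_card.1 (PSolvable.pCore_isPGroup (p := (t : ℕ)) (G := ↥L))
      have hn0 : n ≠ 0 := by
        rintro rfl
        exact hne (Subgroup.card_eq_one.1 (by simpa using hn))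
      exact (dvd_pow_self (t : ℕ) hn0).trans (hn ▸ (Subgroup.card_subgroup_dvd_card _).trans
        (Subgroup.card_subgroup_dvd_card L))
    rcases c.dvd_card_or t.2 htL with htA | htB
    · exact hne (c.pCore_A_eq_bot hm t.2 htA)
    · have := c.symm.pCore_A_eq_bot hm.symm t.2 htB
      rw [sup_comm] at this
      exact hne this
  have htop : (⊤ : Subgroup ↥L) ≤ ⊥ := by
    have := Fitting.centralizer_fittingSubgroup_le (G := ↥L)
    rw [hF] at this
    intro x _
    refine this (Subgroup.mem_centralizer_iff.2 fun y hy => ?_)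
    rw [Subgroup.mem_bot.1 hy, one_mul, mul_one]
  refine hm.1.neA ((Subgroup.eq_bot_iff_forall A2).2 fun x hx => ?_)
  exact congrArg Subtype.val
    (Subgroup.mem_bot.1 (htop (Subgroup.mem_top (⟨x, le_sup_left.trans Subgroup.le_normalizer hx⟩ : ↥L))))

/-- A central element of `A` normalizes no nontrivial subgroup whose primes divide `|B|`. -/
theorem not_normalize {z : G} (hz : z ∈ A) (hz1 : z ≠ 1) (hzc : ∀ a ∈ A, a * z = z * a)
    (Y : Subgroup G) (hY : ∀ p : ℕ, p.Prime → p ∣ Nat.card Y → p ∣ Nat.card B)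
    (hzY : z ∈ Subgroup.normalizer (Y : Set G)) : Y = ⊥ := by
  have := c.finite
  by_contra hne
  obtain ⟨g, hg⟩ := exists_conj_ge_of_nilpotent_hall B Y c.nilB c.symm.hall hY
  obtain ⟨a, ha, hga⟩ := c.conj_B g
  rw [hga] at hg
  set Y' := MulAut.conj a⁻¹ • Y with hY'
  have hY'B : Y' ≤ B := by
    rw [hY', map_inv, Subgroup.pointwise_smul_subset_iff, inv_inv]
    exact hg
  have hY'ne : Y' ≠ ⊥ := fun he => hne ((Subgroup.eq_bot_iff_forall Y).2 fun y hy => by
    have h2 : MulAut.conj a⁻¹ • y ∈ Y' := Subgroup.smul_mem_pointwise_smul y _ _ hy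
    rw [he, Subgroup.mem_bot, MulAut.smul_def, MulAut.conj_apply, conj_eq_one_iff] at h2
    exact h2)
  have hzY' : z ∈ Subgroup.normalizer (Y' : Set G) := by
    rw [Subgroup.mem_normalizer_iff]
    intro y
    rw [hY', mem_conj_smul_iff, mem_conj_smul_iff, inv_inv]
    have hza : a * z = z * a := hzc a ha
    have := Subgroup.mem_normalizer_iff.1 hzY (a * y * a⁻¹)
    rw [show z * (a * y * a⁻¹) * z⁻¹ = (z * a) * y * (z * a)⁻¹ by group, ← hza] at this
    convert this using 2
    group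
  obtain ⟨q, hq, hqd⟩ := Nat.exists_prime_and_dvd
    (show Nat.card B ≠ 1 from fun h => c.symm.A_ne_bot (Subgroup.card_eq_one.1 h))
  haveI := Fact.mk hq
  obtain ⟨w, hwp, hw1, hwc⟩ := exists_central_ppart c.nilB hqd
  refine c.no_pair (A1 := Subgroup.zpowers z) (B1 := Subgroup.zpowers w)
    { leA := Subgroup.zpowers_le.2 hz
      normA := fun b hb => Subgroup.centralizer_le_normalizer _ (Subgroup.mem_centralizer_iff.2
        fun x hx => by
          obtain ⟨k, rfl⟩ := Subgroup.mem_zpowers_iff.1 hx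
          exact (Commute.zpow_right (show Commute b z from hzc b hb) k).eq.symm)
      neA := fun he => hz1 (Subgroup.zpowers_eq_bot.1 he)
      leB := Subgroup.zpowers_le.2 (ppart_le hwp)
      normB := fun b hb => Subgroup.centralizer_le_normalizer _ (Subgroup.mem_centralizer_iff.2
        fun x hx => by
          obtain ⟨k, rfl⟩ := Subgroup.mem_zpowers_iff.1 hx
          exact (Commute.zpow_right (show Commute b w from hwc b hb) k).eq.symm)
      neB := fun he => hw1 (Subgroup.zpowers_eq_bot.1 he)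
      proper := fun he => c.normalizer_ne_top hY'ne
        (fun ht => c.symm.A_ne_top (top_le_iff.1 (ht ▸ hY'B))) (top_le_iff.1 (he ▸ ?_)) }
  refine sup_le (Subgroup.zpowers_le.2 hzY') (Subgroup.zpowers_le.2
    (Subgroup.centralizer_le_normalizer _ (Subgroup.mem_centralizer_iff.2 fun y hy => ?_)))
  exact hwc y (hY'B hy)

end CoprimeCtx

end Cfsg.Agent.Lib.Factorized
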