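import Cfsg.Agent.Lib.Factorized.CoprimePairs
import Cfsg.Agent.Lib.Factorized.ControlComplement

/-!
In a minimal counterexample `G = AB` to Wielandt's theorem the factors are TI subgroups, and a
count of elements gives a contradiction.
-/

set_option autoImplicit false

open Pointwise

namespace Cfsg.Agent.Lib.Factorized

universe u

variable {G : Type u} [Group G]

namespace CoprimeCtx

variable {A B : Subgroup G} (c : CoprimeCtx A B)

include c

/-- The centralizer of a nontrivial central element of `A` is `A`. -/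
theorem centralizer_central_le {z : G} (hz : z ∈ A) (hz1 : z ≠ 1)
    (hzc : ∀ a ∈ A, a * z = z * a) : Subgroup.centralizer ({z} : Set G) ≤ A := by
  have := c.finite
  intro g hg
  obtain ⟨a, ha, b, hb, rfl⟩ := c.fac g
  have hbz : b * z = z * b := by
    have h1 := Subgroup.mem_centralizer_singleton_iff.1 hg
    calc b * z = a⁻¹ * (a * b * z) := by group
      _ = a⁻¹ * (z * a * b) := by rw [h1]; group
      _ = a⁻¹ * (a * z * b) := by rw [hzc a ha]
      _ = z * b := by group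
  have hY : Subgroup.zpowers b = ⊥ := by
    refine c.not_normalize hz hz1 hzc _ (fun p _ hpd => hpd.trans
      (Subgroup.card_dvd_of_le (Subgroup.zpowers_le.2 hb))) ?_
    refine Subgroup.centralizer_le_normalizer _ (Subgroup.mem_centralizer_iff.2 fun y hy => ?_)
    obtain ⟨k, rfl⟩ := Subgroup.mem_zpowers_iff.1 hy
    exact (Commute.zpow_left (show Commute b z from hbz) k).eq
  rw [Subgroup.zpowers_eq_bot] at hY
  simpa [hY] using ha

theorem ppart_conj_eq {t : ℕ} [Fact t.Prime] {g : G}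
    (h : ppart A t ≤ MulAut.conj g • A) : MulAut.conj g • ppart A t = ppart A t := by
  have := c.finite
  have h1 : MulAut.conj g⁻¹ • ppart A t ≤ ppart A t := by
    refine le_ppart c.nilA ?_ (isPGroup_ppart.map _)
    rw [map_inv, Subgroup.pointwise_smul_subset_iff, inv_inv]
    exact h
  have h2 : MulAut.conj g⁻¹ • ppart A t = ppart A t :=
    Subgroup.eq_of_le_of_card_ge h1
      (le_of_eq (Nat.card_congr (Subgroup.equivSMul (MulAut.conj g⁻¹) (ppart A t)).toEquiv))
  conv_lhs => rw [← h2, ← conj_mul_smul, mul_inv_cancel, map_one, one_smul]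

theorem conj_ppart_ne {p t : ℕ} (hp : p.Prime) (ht : t.Prime) (hpt : t ≠ p) {g z : G}
    (hz : z ∈ A) (hz1 : z ≠ 1) (hzc : ∀ a ∈ A, a * z = z * a)
    (hgz : g * z * g⁻¹ ∈ ppart A p) : MulAut.conj g • ppart A t = ppart A t := by
  haveI := Fact.mk hp
  haveI := Fact.mk ht
  have := c.finite
  refine c.ppart_conj_eq ?_
  intro x hx
  rw [mem_conj_smul_iff]
  refine c.centralizer_central_le hz hz1 hzc (Subgroup.mem_centralizer_singleton_iff.2 ?_)
  have h1 := commute_ppart c.nilA hpt hx hgz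
  calc g⁻¹ * x * g * z = g⁻¹ * (x * (g * z * g⁻¹)) * g := by group
    _ = g⁻¹ * (g * z * g⁻¹ * x) * g := by rw [h1]
    _ = z * (g⁻¹ * x * g) := by group

/-- An element normalizing one Sylow subgroup of `A` normalizes `A`. -/
theorem mem_normalizer_of_ppart {g : G} {t : ℕ} (ht : t.Prime) (htA : t ∣ Nat.card A)
    (hg : MulAut.conj g • ppart A t = ppart A t) : g ∈ Subgroup.normalizer (A : Set G) := by
  have := c.finite
  haveI := Fact.mk ht
  obtain ⟨z, hzp, hz1, hzc⟩ := exists_central_ppart c.nilA htA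
  have hgz : g * z * g⁻¹ ∈ ppart A t := by
    rw [← hg, mem_conj_smul_iff]
    convert hzp using 1
    group
  have hall : ∀ p : ℕ, p.Prime → p ∣ Nat.card A → ppart A p ≤ MulAut.conj g • A := by
    intro p hp _
    by_cases hpt : p = t
    · subst hpt
      exact hg.symm.le.trans (Subgroup.pointwise_smul_le_pointwise_smul_iff.2 ppart_le)
    · exact (c.conj_ppart_ne ht hp hpt (ppart_le hzp) hz1 hzc hgz).symm.le.trans
        (Subgroup.pointwise_smul_le_pointwise_smul_iff.2 ppart_le)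
  have hle : A ≤ MulAut.conj g • A := le_of_forall_ppart_le c.nilA hall
  have heq : A = MulAut.conj g • A := Subgroup.eq_of_le_of_card_ge hle
    (le_of_eq (Nat.card_congr (Subgroup.equivSMul (MulAut.conj g) A).toEquiv).symm)
  rw [Subgroup.mem_normalizer_iff]
  intro x
  conv_rhs => rw [heq, mem_conj_smul_iff]
  group

/-- A central element of `A` of prime power order is only conjugated into `A` by `N(A)`. -/
theorem mem_normalizer_of_central {g z : G} {p : ℕ} (hp : p.Prime) (hz : z ∈ ppart A p)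
    (hz1 : z ≠ 1) (hzc : ∀ a ∈ A, a * z = z * a) (hgz : g * z * g⁻¹ ∈ A) :
    g ∈ Subgroup.normalizer (A : Set G) := by
  have := c.finite
  haveI := Fact.mk hp
  obtain ⟨t, ht, htA, htp⟩ := c.exists_other_prime p
  haveI := Fact.mk ht
  have hgzp : g * z * g⁻¹ ∈ ppart A p := by
    refine le_ppart c.nilA (R := Subgroup.zpowers (g * z * g⁻¹)) (Subgroup.zpowers_le.2 hgz) ?_
      (Subgroup.mem_zpowers _)
    obtain ⟨i, hi⟩ := IsPGroup.iff_orderOf.1 (isPGroup_ppart (A := A) (p := p)) ⟨z, hz⟩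
    refine IsPGroup.of_card (n := i) ?_
    rw [Nat.card_zpowers, ← hi, ← Subgroup.orderOf_coe]
    exact MulEquiv.orderOf_eq (MulAut.conj g) z
  exact c.mem_normalizer_of_ppart ht htA (c.conj_ppart_ne hp ht htp (ppart_le hz) hz1 hzc hgzp)

/-- A subgroup involving only primes of `A` and containing a nontrivial central `p`-element of
`A` lies in `A`. -/
theorem le_A_of_central_mem {R : Subgroup G}
    (hR : ∀ q : ℕ, q.Prime → q ∣ Nat.card R → q ∣ Nat.card A) {z : G} {p : ℕ} (hp : p.Prime)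
    (hz : z ∈ ppart A p) (hz1 : z ≠ 1) (hzc : ∀ a ∈ A, a * z = z * a) (hzR : z ∈ R) : R ≤ A := by
  have := c.finite
  obtain ⟨k, hk⟩ := exists_conj_ge_of_nilpotent_hall A R c.nilA c.hall hR
  have h1 := mem_conj_smul_iff.1 (hk hzR)
  have hkN : k⁻¹ ∈ Subgroup.normalizer (A : Set G) :=
    c.mem_normalizer_of_central hp hz hz1 hzc (by simpa using h1)
  exact hk.trans (conj_smul_eq_self_of_le_normalizer le_rfl (inv_mem_iff.1 hkN)).le

theorem card_pGroup_primes {p : ℕ} (hp : p.Prime) (hpA : p ∣ Nat.card A) {R : Subgroup G}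
    (hR : IsPGroup p R) : ∀ q : ℕ, q.Prime → q ∣ Nat.card R → q ∣ Nat.card A := by
  have := c.finite
  haveI := Fact.mk hp
  intro q hq hqd
  obtain ⟨n, hn⟩ := IsPGroup.iff_card.1 hR
  rw [hn] at hqd
  exact (Nat.prime_dvd_prime_iff_eq hq hp).1 (hq.dvd_of_dvd_pow hqd) ▸ hpA

/-- Control of fusion in `A`, relative to a subgroup `X` containing a central `p`-element. -/
theorem control {X : Subgroup G} {z : G} {p : ℕ} (hp : p.Prime) (hpA : p ∣ Nat.card A)
    (hz : z ∈ ppart A p) (hz1 : z ≠ 1) (hzc : ∀ a ∈ A, a * z = z * a) (hzX : z ∈ X)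
    {x u : G} (hx : x ∈ A) (hu : u ∈ X) (hy : u * x * u⁻¹ ∈ A) :
    ∃ m ∈ Subgroup.normalizer (A : Set G) ⊓ X, m * x * m⁻¹ = u * x * u⁻¹ := by
  have := c.finite
  haveI := Fact.mk hp
  set y := u * x * u⁻¹ with hyd
  set Y0 := Subgroup.centralizer ({y} : Set G) ⊓ X with hY0
  have hzY : z ∈ Y0 :=
    ⟨Subgroup.mem_centralizer_singleton_iff.2 (hzc y hy).symm, hzX⟩
  have hwY : u * z * u⁻¹ ∈ Y0 := by
    refine ⟨Subgroup.mem_centralizer_singleton_iff.2 ?_, X.mul_mem (X.mul_mem hu hzX) (X.inv_mem hu)⟩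
    rw [hyd]
    calc u * z * u⁻¹ * (u * x * u⁻¹) = u * (z * x) * u⁻¹ := by group
      _ = u * (x * z) * u⁻¹ := by rw [hzc x hx]
      _ = u * x * u⁻¹ * (u * z * u⁻¹) := by group
  obtain ⟨i, hi⟩ := IsPGroup.iff_orderOf.1 (isPGroup_ppart (A := A) (p := p)) ⟨z, hz⟩
  rw [← Subgroup.orderOf_coe] at hi
  have hzp : IsPGroup p ↥((Subgroup.zpowers (⟨z, hzY⟩ : Y0))) := by
    refine IsPGroup.of_card (n := i) ?_
    rw [Nat.card_zpowers, ← Subgroup.orderOf_coe, hi]
  have hwp : IsPGroup p ↥((Subgroup.zpowers (⟨u * z * u⁻¹, hwY⟩ : Y0))) := by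
    refine IsPGroup.of_card (n := i) ?_
    rw [Nat.card_zpowers, ← Subgroup.orderOf_coe, ← hi]
    exact MulEquiv.orderOf_eq (MulAut.conj u) z
  obtain ⟨R, hR⟩ := hzp.exists_le_sylow
  obtain ⟨R', hR'⟩ := hwp.exists_le_sylow
  obtain ⟨d, hd⟩ := MulAction.exists_smul_eq Y0 R' R
  have hRA : (R : Subgroup Y0).map Y0.subtype ≤ A :=
    c.le_A_of_central_mem (c.card_pGroup_primes hp hpA (R.2.map Y0.subtype)) hp hz hz1 hzc
      ⟨⟨z, hzY⟩, hR (Subgroup.mem_zpowers _), rfl⟩
  have hdz : (d : G) * u * z * ((d : G) * u)⁻¹ ∈ A := by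
    refine hRA ⟨d * ⟨u * z * u⁻¹, hwY⟩ * d⁻¹, ?_, ?_⟩
    · rw [← hd, Sylow.coe_subgroup_smul]
      exact Subgroup.smul_mem_pointwise_smul _ (MulAut.conj d) _ (hR' (Subgroup.mem_zpowers _))
    · simp [mul_assoc]
  refine ⟨(d : G) * u, ⟨c.mem_normalizer_of_central hp hz hz1 hzc hdz, X.mul_mem d.2.2 hu⟩, ?_⟩
  have hdy : (d : G) * y = y * (d : G) := Subgroup.mem_centralizer_singleton_iff.1 d.2.1
  calc (d : G) * u * x * ((d : G) * u)⁻¹ = (d : G) * y * (d : G)⁻¹ := by rw [hyd]; group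
    _ = y := by rw [hdy, mul_inv_cancel_right]

/-- The centralizer of a nontrivial element of `B` normalizing `A` normalizes `B`. -/
theorem centralizer_le_of_mem_normalizer {b : G} (hb : b ∈ B) (hb1 : b ≠ 1)
    (hbN : b ∈ Subgroup.normalizer (A : Set G)) :
    Subgroup.centralizer ({b} : Set G) ≤ Subgroup.normalizer (B : Set G) := by
  have := c.finite
  set X := Subgroup.centralizer ({b} : Set G) with hX
  have hXfac : ∀ g ∈ X, ∃ a ∈ A ⊓ X, ∃ b' ∈ B ⊓ X, g = a * b' := by
    intro g hg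
    obtain ⟨a, ha, b', hb', rfl⟩ := c.fac g
    have h1 := Subgroup.mem_centralizer_singleton_iff.1 hg
    have he : b' * b * b'⁻¹ * b⁻¹ = a⁻¹ * b * a * b⁻¹ := by
      calc b' * b * b'⁻¹ * b⁻¹ = a⁻¹ * (a * b' * b) * b'⁻¹ * b⁻¹ := by group
        _ = a⁻¹ * (b * (a * b')) * b'⁻¹ * b⁻¹ := by rw [h1]
        _ = a⁻¹ * b * a * b⁻¹ := by group
    have hmem : b' * b * b'⁻¹ * b⁻¹ ∈ A ⊓ B := by
      refine ⟨?_, B.mul_mem (B.mul_mem (B.mul_mem hb' hb) (B.inv_mem hb')) (B.inv_mem hb)⟩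
      rw [SetLike.mem_coe, he, show a⁻¹ * b * a * b⁻¹ = a⁻¹ * (b * a * b⁻¹) by group]
      exact A.mul_mem (A.inv_mem ha) ((Subgroup.mem_normalizer_iff.1 hbN a).1 ha)
    rw [c.inf_eq_bot, Subgroup.mem_bot, mul_inv_eq_one, mul_inv_eq_iff_eq_mul] at hmem
    have hb'X : b' ∈ X := Subgroup.mem_centralizer_singleton_iff.2 hmem
    exact ⟨a, ⟨ha, by simpa using X.mul_mem hg (X.inv_mem hb'X)⟩, b', ⟨hb', hb'X⟩, rfl⟩
  have hXtop : X ≠ ⊤ := by
    intro h
    rcases c.eq_bot_or_top (Subgroup.center G) with h1 | h1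
    · refine hb1 (Subgroup.mem_bot.1 (h1 ▸ Subgroup.mem_center_iff.2 fun g => ?_))
      exact Subgroup.mem_centralizer_singleton_iff.1 (show g ∈ X by rw [h]; trivial)
    · exact c.nonsolv (Group.isSolvable_of_comm fun x y =>
        Subgroup.mem_center_iff.1 (h1 ▸ Subgroup.mem_top y) x)
  haveI : Group.IsSolvable X := c.ih X hXtop hXfac
  obtain ⟨q, hq, hqd⟩ := Nat.exists_prime_and_dvd
    (show Nat.card B ≠ 1 from fun h => c.symm.A_ne_bot (Subgroup.card_eq_one.1 h))
  haveI := Fact.mk hq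
  obtain ⟨w, hwp, hw1, hwc⟩ := exists_central_ppart c.nilB hqd
  have hwX : w ∈ X := Subgroup.mem_centralizer_singleton_iff.2 (hwc b hb).symm
  have hXfac' : ∀ g ∈ X, ∃ b' ∈ B ⊓ X, ∃ a ∈ A ⊓ X, g = b' * a := by
    intro g hg
    obtain ⟨a, ha, b', hb', he⟩ := hXfac g⁻¹ (X.inv_mem hg)
    exact ⟨b'⁻¹, inv_mem hb', a⁻¹, inv_mem ha, by rw [← mul_inv_rev, ← he, inv_inv]⟩
  have hF : Cfsg.fittingSubgroup ↥X ≤ B.subgroupOf X := by
    rw [Fitting.fittingSubgroup_eq_iSup_pCore]
    refine iSup_le fun t => ?_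
    haveI := Fact.mk t.2
    haveI := PSolvable.pCore_characteristic (p := (t : ℕ)) (G := ↥X)
    by_cases htA : (t : ℕ) ∣ Nat.card A
    · set T := (Cfsg.pCore (t : ℕ) ↥X).map X.subtype with hT
      have hTb : T = ⊥ := by
        refine c.symm.not_normalize (ppart_le hwp) hw1 hwc T
          (c.card_pGroup_primes t.2 htA ((PSolvable.pCore_isPGroup).map X.subtype)) ?_
        refine (Subgroup.normal_subgroupOf_iff_le_normalizer (Subgroup.map_subtype_le _)).1 ?_ hwX
        rw [Subgroup.subgroupOf, Subgroup.comap_map_eq_self_of_injective X.subtype_injective]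
        infer_instance
      rw [(Subgroup.map_eq_bot_iff_of_injective _ X.subtype_injective).1 hTb]
      exact bot_le
    · refine c.symm.normal_le hXfac' _ fun q' hq' hqd' => ?_
      obtain ⟨n, hn⟩ := IsPGroup.iff_card.1 (PSolvable.pCore_isPGroup (p := (t : ℕ)) (G := ↥X))
      have hq't : q' = (t : ℕ) :=
        (Nat.prime_dvd_prime_iff_eq hq' t.2).1 (hq'.dvd_of_dvd_pow (hn ▸ hqd'))
      refine ((c.dvd_card_or hq' ?_).resolve_left (hq't ▸ htA))
      exact hqd'.trans ((Subgroup.card_subgroup_dvd_card _).trans (Subgroup.card_subgroup_dvd_card X))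
  have hwF : (⟨w, hwX⟩ : ↥X) ∈ Cfsg.fittingSubgroup ↥X := by
    refine Fitting.centralizer_fittingSubgroup_le (Subgroup.mem_centralizer_iff.2 fun y hy => ?_)
    exact Subtype.ext (hwc y (hF hy))
  intro g hg
  haveI := Fitting.fittingSubgroup_normal (G := ↥X)
  have h1 := hF ((inferInstance : (Cfsg.fittingSubgroup ↥X).Normal).conj_mem _ hwF ⟨g, hg⟩)
  exact c.symm.mem_normalizer_of_central hq hwp hw1 hwc h1

/-- Centralizers of nontrivial elements of `A` normalize `A`. -/
theorem centralizer_le {a : G} (ha : a ∈ A) (ha1 : a ≠ 1) :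
    Subgroup.centralizer ({a} : Set G) ≤ Subgroup.normalizer (A : Set G) := by
  have := c.finite
  set X := Subgroup.centralizer ({a} : Set G) with hX
  by_cases hcase : ∃ y, y ∈ X ⊓ Subgroup.normalizer (A : Set G) ∧ y ≠ 1 ∧
      ∀ q : ℕ, q.Prime → q ∣ Nat.card (Subgroup.zpowers y) → q ∣ Nat.card B
  · obtain ⟨y, hy, hy1, hyq⟩ := hcase
    obtain ⟨g, hg⟩ := exists_conj_ge_of_nilpotent_hall B _ c.nilB c.symm.hall hyq
    obtain ⟨a0, ha0, he⟩ := c.conj_B g
    rw [he] at hg
    set b := a0⁻¹ * y * a0 with hbd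
    set a' := a0⁻¹ * a * a0 with ha'd
    have hb : b ∈ B := mem_conj_smul_iff.1 (hg (Subgroup.mem_zpowers y))
    have hb1 : b ≠ 1 := fun h => hy1 (by
      have : y = a0 * b * a0⁻¹ := by rw [hbd]; group
      rw [this, h]; group)
    have ha0N : a0 ∈ Subgroup.normalizer (A : Set G) := Subgroup.le_normalizer ha0
    have hbN : b ∈ Subgroup.normalizer (A : Set G) := mul_mem (mul_mem (inv_mem ha0N) hy.2) ha0N
    have hab : a' * b = b * a' := by
      have h1 := Subgroup.mem_centralizer_singleton_iff.1 hy.1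
      calc a' * b = a0⁻¹ * (a * y) * a0 := by rw [ha'd, hbd]; group
        _ = a0⁻¹ * (y * a) * a0 := by rw [h1]
        _ = b * a' := by rw [ha'd, hbd]; group
    have ha'A : a' ∈ A := A.mul_mem (A.mul_mem (A.inv_mem ha0) ha) ha0
    have ha'N : a' ∈ Subgroup.normalizer (B : Set G) :=
      c.centralizer_le_of_mem_normalizer hb hb1 hbN (Subgroup.mem_centralizer_singleton_iff.2 hab)
    have ha'1 : a' ≠ 1 := fun h => ha1 (by
      have : a = a0 * a' * a0⁻¹ := by rw [ha'd]; group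
      rw [this, h]; group)
    have hC' := c.symm.centralizer_le_of_mem_normalizer ha'A ha'1 ha'N
    intro x hx
    have h1 : a0⁻¹ * x * a0 ∈ Subgroup.centralizer ({a'} : Set G) := by
      rw [Subgroup.mem_centralizer_singleton_iff]
      have h2 := Subgroup.mem_centralizer_singleton_iff.1 hx
      calc a0⁻¹ * x * a0 * a' = a0⁻¹ * (x * a) * a0 := by rw [ha'd]; group
        _ = a0⁻¹ * (a * x) * a0 := by rw [h2]
        _ = a' * (a0⁻¹ * x * a0) := by rw [ha'd]; group
    have h3 := mul_mem (mul_mem ha0N (hC' h1)) (inv_mem ha0N)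
    convert h3 using 1
    group
  · push Not at hcase
    -- `C(a) ∩ N(A) = C_A(a)`
    obtain ⟨p, hp, hpA, -⟩ := c.exists_other_prime 0
    haveI := Fact.mk hp
    obtain ⟨z, hzp, hz1, hzc⟩ := exists_central_ppart c.nilA hpA
    have hzX : z ∈ X := Subgroup.mem_centralizer_singleton_iff.2 (hzc a ha).symm
    have hXN : X ⊓ Subgroup.normalizer (A : Set G) ≤ A := by
      refine c.le_A_of_central_mem (fun q hq hqd => ?_) hp hzp hz1 hzc
        ⟨hzX, Subgroup.le_normalizer (ppart_le hzp)⟩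
      refine (c.dvd_card_or hq (hqd.trans (Subgroup.card_subgroup_dvd_card _))).resolve_right
        fun hqB => ?_
      haveI := Fact.mk hq
      obtain ⟨y, hy⟩ := exists_prime_orderOf_dvd_card' q hqd
      have hy1 : (y : G) ≠ 1 := fun h => by
        rw [← Subgroup.orderOf_coe, h, orderOf_one] at hy
        exact hq.ne_one hy.symm
      obtain ⟨q', hq', hq'd, hq'B⟩ := hcase y y.2 hy1
      rw [Nat.card_zpowers, Subgroup.orderOf_coe, hy, Nat.prime_dvd_prime_iff_eq hq' hq] at hq'd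
      exact hq'B (hq'd ▸ hqB)
    set H := A.subgroupOf X with hH
    have hHnil : Group.IsNilpotent H := by
      haveI := c.nilA
      exact Group.nilpotent_of_mulEquiv
        ((MulEquiv.subgroupCongr (Subgroup.inf_subgroupOf_right A X)).symm.trans
          ((Subgroup.subgroupOfEquivOfLe inf_le_right).trans
            (Subgroup.subgroupOfEquivOfLe (inf_le_left : A ⊓ X ≤ A)).symm)).symm
    have hcentral : ∀ t : ℕ, t.Prime → t ∣ Nat.card A →
        ∃ w, w ∈ ppart A t ∧ w ≠ 1 ∧ (∀ a' ∈ A, a' * w = w * a') ∧ w ∈ X ∧ t ∣ Nat.card H := by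
      intro t ht htA
      haveI := Fact.mk ht
      obtain ⟨w, hwp, hw1, hwc⟩ := exists_central_ppart c.nilA htA
      have hwX : w ∈ X := Subgroup.mem_centralizer_singleton_iff.2 (hwc a ha).symm
      refine ⟨w, hwp, hw1, hwc, hwX, ?_⟩
      obtain ⟨i, hi⟩ := IsPGroup.iff_orderOf.1 (isPGroup_ppart (A := A) (p := t)) ⟨w, hwp⟩
      have hi0 : i ≠ 0 := by
        rintro rfl
        rw [pow_zero, orderOf_eq_one_iff] at hi
        exact hw1 (congrArg Subtype.val hi)
      refine (dvd_pow_self t hi0).trans ?_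
      rw [← hi, ← Subgroup.orderOf_coe]
      rw [show orderOf (w : G) = orderOf (⟨⟨w, hwX⟩, (show (⟨w, hwX⟩ : ↥X) ∈ H from
          (show w ∈ A from ppart_le hwp))⟩ : H) by
        rw [← Subgroup.orderOf_coe, ← Subgroup.orderOf_coe]]
      exact orderOf_dvd_natCard _
    have hHA : Nat.card H ∣ Nat.card A := by
      rw [hH, ← Subgroup.inf_subgroupOf_right A X,
        Nat.card_congr (Subgroup.subgroupOfEquivOfLe (inf_le_right : A ⊓ X ≤ X)).toEquiv]
      exact Subgroup.card_dvd_of_le inf_le_left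
    have hHhall : (Nat.card H).Coprime H.index := by
      refine Nat.coprime_of_dvd fun t ht htH htI => ?_
      haveI := Fact.mk ht
      obtain ⟨w, hwp, hw1, hwc, hwX, -⟩ := hcentral t ht (htH.trans hHA)
      have hwg : IsPGroup t ↥(Subgroup.zpowers (⟨w, hwX⟩ : ↥X)) := by
        obtain ⟨i, hi⟩ := IsPGroup.iff_orderOf.1 (isPGroup_ppart (A := A) (p := t)) ⟨w, hwp⟩
        refine IsPGroup.of_card (n := i) ?_
        rw [Nat.card_zpowers, ← Subgroup.orderOf_coe, ← hi, ← Subgroup.orderOf_coe]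
      obtain ⟨R, hR⟩ := hwg.exists_le_sylow
      have hRH : (R : Subgroup ↥X) ≤ H := fun r hr =>
        c.le_A_of_central_mem (c.card_pGroup_primes ht (htH.trans hHA) (R.2.map X.subtype)) ht hwp
          hw1 hwc ⟨⟨w, hwX⟩, hR (Subgroup.mem_zpowers _), rfl⟩ (Subgroup.mem_map_of_mem X.subtype hr)
      exact R.not_dvd_index (htI.trans (Subgroup.index_dvd_of_le hRH))
    obtain ⟨N, hN, hNH⟩ := normal_complement_of_control hHnil hHhall fun x hx u hu => by
      obtain ⟨m, hm, he⟩ := c.control hp hpA hzp hz1 hzc hzX (X := X) hx u.2 hu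
      exact ⟨⟨m, hm.2⟩, hXN ⟨hm.2, hm.1⟩, Subtype.ext he⟩
    haveI := hN
    have hNb : N.map X.subtype = ⊥ := by
      refine c.not_normalize (ppart_le hzp) hz1 hzc _ (fun q hq hqd => ?_) ?_
      · rw [Subgroup.card_map_of_injective X.subtype_injective] at hqd
        refine (c.dvd_card_or hq (hqd.trans ((Subgroup.card_subgroup_dvd_card N).trans
          (Subgroup.card_subgroup_dvd_card X)))).resolve_left fun hqA => ?_
        obtain ⟨w, -, -, -, -, hqH⟩ := hcentral q hq hqA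
        rw [← hNH.index_eq_card] at hqd
        exact hq.not_dvd_one (hHhall ▸ Nat.dvd_gcd hqH hqd)
      · refine (Subgroup.normal_subgroupOf_iff_le_normalizer (Subgroup.map_subtype_le _)).1 ?_ hzX
        rw [Subgroup.subgroupOf, Subgroup.comap_map_eq_self_of_injective X.subtype_injective]
        infer_instance
    rw [Subgroup.map_eq_bot_iff_of_injective _ X.subtype_injective] at hNb
    rw [hNb] at hNH
    have hHtop := Subgroup.isComplement'_bot_left.1 hNH
    intro x hx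
    exact Subgroup.le_normalizer
      (show (⟨x, hx⟩ : ↥X) ∈ H by rw [hHtop]; trivial)

/-- `A` is a TI subgroup. -/
theorem mem_normalizer_of_conj_mem {a g : G} (ha : a ∈ A) (ha1 : a ≠ 1)
    (hga : g * a * g⁻¹ ∈ A) : g ∈ Subgroup.normalizer (A : Set G) := by
  have := c.finite
  obtain ⟨p, hp, hpA, -⟩ := c.exists_other_prime 0
  haveI := Fact.mk hp
  obtain ⟨z, hzp, hz1, hzc⟩ := exists_central_ppart c.nilA hpA
  obtain ⟨m, hm, he⟩ := c.control hp hpA hzp hz1 hzc (Subgroup.mem_top z) (X := ⊤) ha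
    (Subgroup.mem_top g) hga
  have h1 : m⁻¹ * g ∈ Subgroup.centralizer ({a} : Set G) := by
    rw [Subgroup.mem_centralizer_singleton_iff]
    calc m⁻¹ * g * a = m⁻¹ * (g * a * g⁻¹) * g := by group
      _ = m⁻¹ * (m * a * m⁻¹) * g := by rw [he]
      _ = a * (m⁻¹ * g) := by group
  have h2 := mul_mem hm.1 (c.centralizer_le ha ha1 h1)
  rwa [mul_inv_cancel_left] at h2

end CoprimeCtx

end Cfsg.Agent.Lib.Factorized
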