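import Mathlib

/-!
A Hall subgroup whose focal series reaches the trivial subgroup has a normal complement.
-/

set_option autoImplicit false

open Pointwise

namespace Cfsg.Agent.Lib.Factorized

universe u

variable {G : Type u} [Group G]

theorem focalSubgroup_mono {H K : Subgroup G} (h : H ≤ K) :
    H.focalSubgroup ≤ K.focalSubgroup :=
  Subgroup.closure_mono fun _ ⟨hg, x, hx, hu⟩ => ⟨h hg, x, h hx, hu⟩

theorem map_focalSubgroup_le {G' : Type u} [Group G'] (f : G →* G') (H : Subgroup G) :
    H.focalSubgroup.map f ≤ (H.map f).focalSubgroup := by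
  rw [Subgroup.focalSubgroup_def, MonoidHom.map_closure]
  refine Subgroup.closure_mono ?_
  rintro _ ⟨g, ⟨hg, x, hx, u, rfl⟩, rfl⟩
  exact ⟨Subgroup.mem_map_of_mem f hg, f x, Subgroup.mem_map_of_mem f hx, f u,
    map_commutatorElement f x u⟩

theorem map_iterate_focalSubgroup_le {G' : Type u} [Group G'] (f : G →* G') (H : Subgroup G)
    (n : ℕ) :
    ((fun K : Subgroup G => K.focalSubgroup)^[n] H).map f ≤
      (fun K : Subgroup G' => K.focalSubgroup)^[n] (H.map f) := by
  induction n with
  | zero => exact le_rfl
  | succ n ih =>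
    rw [Function.iterate_succ_apply', Function.iterate_succ_apply']
    exact (map_focalSubgroup_le f _).trans (focalSubgroup_mono ih)

theorem focal_normal_complement [Finite G] (n : ℕ) :
    ∀ (H : Subgroup G), (Nat.card H).Coprime H.index →
      (fun K : Subgroup G => K.focalSubgroup)^[n] H = ⊥ →
      ∃ N : Subgroup G, N.Normal ∧ Subgroup.IsComplement' N H := by
  revert G
  induction n with
  | zero =>
    intro G _ _ H _ h
    refine ⟨⊤, inferInstance, ?_⟩
    rw [Function.iterate_zero_apply] at h
    rw [h]
    exact Subgroup.isComplement'_top_bot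
  | succ n ih =>
    intro G _ _ H hH hfoc
    have hcop : (Nat.card (↥H ⧸ H.focalSubgroupOf)).Coprime H.index :=
      Nat.Coprime.coprime_dvd_left (Subgroup.card_quotient_dvd_card _) hH
    have hbij : Function.Bijective (fun y : ↥H ⧸ H.focalSubgroupOf => y ^ H.index) :=
      (powCoprime hcop).bijective
    set G1 : Subgroup G := H.transferFocal.ker with hG1
    have hmem : ∀ x : H, (x : G) ∈ G1 ↔ x ∈ H.focalSubgroupOf := by
      intro x
      rw [hG1, MonoidHom.mem_ker, H.transferFocal_eq_pow, ← QuotientGroup.eq_one_iff]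
      exact ⟨fun h => hbij.1 (by simpa using h), fun h => by simp [h]⟩
    have hsurj : Function.Surjective H.transferFocal := by
      intro y
      obtain ⟨z, rfl⟩ := hbij.2 y
      obtain ⟨x, rfl⟩ := QuotientGroup.mk_surjective z
      exact ⟨x, H.transferFocal_eq_pow x⟩
    have hG1i : G1.index = H.focalSubgroup.relIndex H := by
      rw [hG1, Subgroup.index_ker, MonoidHom.range_eq_top.2 hsurj, Subgroup.card_top]
      rfl
    have hFG : H.focalSubgroup ≤ G1 := fun x hx =>
      (hmem ⟨x, H.focalSubgroup_le hx⟩).2 hx
    set K : Subgroup G1 := H.focalSubgroup.subgroupOf G1 with hK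
    have hKmap : K.map G1.subtype = H.focalSubgroup := Subgroup.map_subgroupOf_eq_of_le hFG
    have hKi : K.index = H.index := by
      have h1 : H.focalSubgroup.relIndex G1 * G1.index = H.focalSubgroup.index :=
        Subgroup.relIndex_mul_index hFG
      have h2 : H.focalSubgroup.relIndex H * H.index = H.focalSubgroup.index :=
        Subgroup.relIndex_mul_index H.focalSubgroup_le
      rw [← h2, hG1i, mul_comm (H.focalSubgroup.relIndex H)] at h1
      exact Nat.eq_of_mul_eq_mul_right (Nat.pos_of_ne_zero (Subgroup.index_ne_zero_of_finite)) h1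
    have hKc : (Nat.card K).Coprime K.index := by
      rw [hKi]
      refine Nat.Coprime.coprime_dvd_left ?_ hH
      rw [← Subgroup.card_map_of_injective G1.subtype_injective, hKmap]
      exact Subgroup.card_dvd_of_le H.focalSubgroup_le
    have hKfoc : (fun L : Subgroup G1 => L.focalSubgroup)^[n] K = ⊥ := by
      rw [← Subgroup.map_eq_bot_iff_of_injective _ G1.subtype_injective, ← le_bot_iff]
      refine (map_iterate_focalSubgroup_le G1.subtype K n).trans ?_
      rw [hKmap, ← hfoc, Function.iterate_succ_apply]
    obtain ⟨M, hMn, hMK⟩ := ih K hKc hKfoc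
    have hMc : Nat.card M = H.index := by rw [← hKi, hMK.index_eq_card]
    -- `M` consists of the elements of `G1` killed by the power `|M|`
    have hMmem : ∀ x : G1, x ∈ M ↔ x ^ Nat.card M = 1 := by
      intro x
      constructor
      · intro hx
        exact (congrArg Subtype.val (pow_card_eq_one' (x := (⟨x, hx⟩ : M))))
      · intro hx
        rw [← QuotientGroup.eq_one_iff, ← orderOf_eq_one_iff]
        refine Nat.eq_one_of_dvd_coprimes (a := Nat.card M) (b := M.index) ?_ ?_ ?_
        · rw [hMK.symm.index_eq_card, hMc, ← hKi]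
          exact hKc.symm
        · exact orderOf_dvd_of_pow_eq_one (by rw [← QuotientGroup.mk_pow, hx, QuotientGroup.mk_one])
        · exact orderOf_dvd_natCard _
    refine ⟨M.map G1.subtype, ?_, ?_⟩
    · refine ⟨fun x hx g => ?_⟩
      obtain ⟨y, hy, rfl⟩ := hx
      have hG1n : G1.Normal := MonoidHom.normal_ker _
      refine ⟨⟨g * y * g⁻¹, hG1n.conj_mem _ y.2 g⟩, (hMmem _).2 (Subtype.ext ?_), rfl⟩
      have h1 : (y : G) ^ Nat.card M = 1 := congrArg Subtype.val ((hMmem y).1 hy)
      simp [conj_pow, h1]
    · refine Subgroup.isComplement'_of_coprime ?_ ?_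
      · rw [Subgroup.card_map_of_injective G1.subtype_injective, hMc, mul_comm]
        exact H.card_mul_index
      · rw [Subgroup.card_map_of_injective G1.subtype_injective, hMc]
        exact hH.symm

end Cfsg.Agent.Lib.Factorized
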